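import Mathlib.GroupTheory.OrderOfElement
import Cfsg.Prelude.Def_Transfer
import Cfsg.Agent.Solvable.Glauberman

/-!
`O^p(G)` and normal `p`-complements.
-/

set_option autoImplicit false
set_option linter.style.haveILetI false
set_option linter.deprecated false

namespace CfsgLib.PResidual

open Subgroup CfsgLib.Solvable

universe u

variable {G : Type u} [Group G] (p : ℕ)

instance pResidual_normal : (Cfsg.pResidual p G).Normal := by
  constructor
  intro n hn g
  induction hn using closure_induction with
  | mem x hx =>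
    refine subset_closure ?_
    show Nat.Coprime (orderOf (g * x * g⁻¹)) p
    have : orderOf (g * x * g⁻¹) = orderOf x := by
      rw [← MulAut.conj_apply, ← MulEquiv.coe_toMonoidHom, orderOf_injective _ (MulEquiv.injective _)]
    rwa [this]
  | one => simp
  | mul a b _ _ ha hb =>
    have := mul_mem ha hb
    simpa [mul_assoc] using this
  | inv a _ ha => simpa [mul_assoc] using inv_mem ha

theorem mem_pResidual {g : G} (hg : (orderOf g).Coprime p) : g ∈ Cfsg.pResidual p G :=
  subset_closure hg

variable {p}

/-- Powers of `p` carry every element of a finite group into `O^p`. -/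
theorem pow_mem_pResidual [Finite G] (hp : p.Prime) (g : G) :
    g ^ p ^ (orderOf g).factorization p ∈ Cfsg.pResidual p G := by
  apply mem_pResidual
  rw [orderOf_pow_of_dvd (pow_ne_zero _ hp.ne_zero) (Nat.ordProj_dvd _ _)]
  exact (Nat.coprime_ordCompl hp (orderOf_pos g).ne').symm

theorem isPGroup_quotient_pResidual [Finite G] [Fact p.Prime] :
    IsPGroup p (G ⧸ Cfsg.pResidual p G) := by
  intro q
  obtain ⟨g, rfl⟩ := QuotientGroup.mk'_surjective _ q
  exact ⟨_, by rw [← map_pow]; exact (QuotientGroup.eq_one_iff _).2 (pow_mem_pResidual Fact.out g)⟩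

/-- `O^p(G)` lies in every normal subgroup of `p`-power index. -/
theorem pResidual_le [Finite G] [hp : Fact p.Prime] {N : Subgroup G} [N.Normal] {k : ℕ}
    (hN : N.index = p ^ k) : Cfsg.pResidual p G ≤ N := by
  rw [Cfsg.pResidual, closure_le]
  intro g hg
  rw [SetLike.mem_coe, ← QuotientGroup.eq_one_iff (N := N), ← orderOf_eq_one_iff]
  refine Nat.eq_one_of_dvd_coprimes (Nat.Coprime.pow_right k (show (orderOf g).Coprime p from hg))
    (orderOf_map_dvd (QuotientGroup.mk' N) g) ?_
  rw [← hN, index_eq_card]
  exact orderOf_dvd_natCard _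

theorem exists_index_pResidual [Finite G] [Fact p.Prime] :
    ∃ k, (Cfsg.pResidual p G).index = p ^ k :=
  IsPGroup.iff_card.1 isPGroup_quotient_pResidual

theorem coprime_of_not_dvd {a : ℕ} (hp : p.Prime) (h : ¬ p ∣ a) : a.Coprime p :=
  (hp.coprime_iff_not_dvd.2 h).symm

theorem card_coprime_of_isComplement' [Finite G] [hp : Fact p.Prime] (P : Sylow p G)
    {N : Subgroup G} (hN : N.IsComplement' (P : Subgroup G)) :
    (Nat.card N).Coprime p ∧ ∃ k, N.index = p ^ k := by
  refine ⟨coprime_of_not_dvd hp.out (hN.index_eq_card ▸ P.not_dvd_index), ?_⟩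
  obtain ⟨k, hk⟩ := IsPGroup.iff_card.1 P.2
  exact ⟨k, hN.symm.index_eq_card.trans hk⟩

theorem eq_pResidual_of_coprime [Finite G] [hp : Fact p.Prime] {N : Subgroup G} [N.Normal] {k : ℕ}
    (hc : (Nat.card N).Coprime p) (hN : N.index = p ^ k) : N = Cfsg.pResidual p G :=
  le_antisymm (fun _ hx => mem_pResidual p (hc.coprime_dvd_left
    (Subgroup.orderOf_dvd_natCard _ hx))) (pResidual_le hN)

theorem isComplement'_of_coprime_pResidual [Finite G] [hp : Fact p.Prime]
    (h : (Nat.card (Cfsg.pResidual p G)).Coprime p) (P : Sylow p G) :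
    (Cfsg.pResidual p G).IsComplement' (P : Subgroup G) := by
  obtain ⟨k, hk⟩ := exists_index_pResidual (G := G) (p := p)
  have hcard : Nat.card P = p ^ k := by
    rw [P.card_eq_multiplicity, ← card_mul_index (Cfsg.pResidual p G), hk,
      Nat.factorization_mul Nat.card_pos.ne' (pow_ne_zero _ hp.out.ne_zero)]
    simp [hp.out.factorization_pow,
      Nat.factorization_eq_zero_of_not_dvd (hp.out.coprime_iff_not_dvd.1 h.symm)]
  refine isComplement'_of_coprime ?_ ?_
  · rw [hcard, ← hk, card_mul_index]
  · rw [hcard]; exact h.pow_right k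

theorem hasNormalPComplement_iff [Finite G] [hp : Fact p.Prime] :
    Cfsg.HasNormalPComplement p G ↔ (Nat.card (Cfsg.pResidual p G)).Coprime p := by
  constructor
  · rintro ⟨P, N, hN, hNP⟩
    obtain ⟨hc, k, hk⟩ := card_coprime_of_isComplement' P hNP
    haveI := hN
    exact eq_pResidual_of_coprime hc hk ▸ hc
  · intro h
    exact ⟨default, _, inferInstance, isComplement'_of_coprime_pResidual h default⟩

theorem hasNormalPComplement_of_normal [Finite G] [hp : Fact p.Prime] {N : Subgroup G} [N.Normal]
    {k : ℕ} (hc : (Nat.card N).Coprime p) (hN : N.index = p ^ k) :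
    Cfsg.HasNormalPComplement p G :=
  hasNormalPComplement_iff.2 (eq_pResidual_of_coprime hc hN ▸ hc)

theorem mem_iff_coprime [Finite G] [hp : Fact p.Prime] {P : Sylow p G} {N : Subgroup G} [N.Normal]
    (hN : N.IsComplement' (P : Subgroup G)) (x : G) : x ∈ N ↔ (orderOf x).Coprime p := by
  obtain ⟨hc, k, hk⟩ := card_coprime_of_isComplement' P hN
  refine ⟨fun hx => hc.coprime_dvd_left (Subgroup.orderOf_dvd_natCard _ hx), fun hx => ?_⟩
  rw [eq_pResidual_of_coprime hc hk]
  exact mem_pResidual p hx

variable {G' : Type*} [Group G']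

theorem map_pResidual_le [Finite G] (f : G →* G') :
    (Cfsg.pResidual p G).map f ≤ Cfsg.pResidual p G' := by
  rw [Cfsg.pResidual, MonoidHom.map_closure, closure_le]
  rintro _ ⟨g, hg, rfl⟩
  exact mem_pResidual p (Nat.Coprime.coprime_dvd_left (orderOf_map_dvd f g) hg)

theorem hasNormalPComplement_of_injective [Finite G] [Finite G'] [Fact p.Prime] (f : G' →* G)
    (hf : Function.Injective f) (h : Cfsg.HasNormalPComplement p G) :
    Cfsg.HasNormalPComplement p G' := by
  rw [hasNormalPComplement_iff] at h ⊢
  refine h.coprime_dvd_left ?_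
  rw [← card_map_of_injective (K := Cfsg.pResidual p G') hf]
  exact card_dvd_of_le (map_pResidual_le f)

theorem hasNormalPComplement_subgroup [Finite G] [Fact p.Prime] (H : Subgroup G)
    (h : Cfsg.HasNormalPComplement p G) : Cfsg.HasNormalPComplement p H :=
  hasNormalPComplement_of_injective H.subtype H.subtype_injective h

instance pResidual_characteristic [Finite G] : (Cfsg.pResidual p G).Characteristic :=
  characteristic_iff_map_le.2 fun φ => map_pResidual_le φ.toMonoidHom

end CfsgLib.PResidual
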