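import Mathlib.GroupTheory.Focal
import Cfsg.Agent.Transfer.PResidual

/-!
Burnside's fusion lemma and Alperin's fusion theorem.
-/

set_option autoImplicit false
set_option linter.style.haveILetI false
set_option linter.deprecated false
set_option linter.unusedSectionVars false

namespace CfsgLib.Fusion

open Subgroup Pointwise CfsgLib.Solvable CfsgLib.SZ

variable {G : Type*} [Group G] [Finite G] {p : ℕ} [hp : Fact p.Prime]

/-- A proper subgroup of a `p`-subgroup is proper in its normalizer there. -/
theorem lt_inf_normalizer {P A : Subgroup G} (hP : IsPGroup p P) (hA : A < P) :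
    A < P ⊓ normalizer (A : Set G) := by
  refine lt_of_le_of_ne (le_inf hA.le le_normalizer) fun he => ?_
  haveI : Group.IsNilpotent P := hP.isNilpotent
  have hlt : A.subgroupOf P < ⊤ :=
    lt_top_iff_ne_top.2 fun h => hA.not_ge (subgroupOf_eq_top.1 h)
  obtain ⟨x, hx, hxA⟩ :=
    SetLike.exists_of_lt (Group.normalizerCondition_of_isNilpotent _ hlt)
  rw [← subgroupOf_normalizer_eq hA.le] at hx
  exact hxA (he.ge ⟨x.2, hx⟩)

/-- A `p`-subgroup of `H` can be conjugated inside `H` into any subgroup `T` of `H` of `p'`-index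
that is a `p`-group. -/
theorem exists_conj_le_of_sylow_relIndex {H T U : Subgroup G} (hT : T ≤ H)
    (hTp : IsPGroup p T) (hidx : ¬ p ∣ T.relIndex H) (hU : IsPGroup p U) (hUH : U ≤ H) :
    ∃ m ∈ H, MulAut.conj m • U ≤ T := by
  let S : Sylow p H := (hTp.comap_subtype (K := H)).toSylow hidx
  obtain ⟨S', hS'⟩ := (hU.comap_subtype (K := H)).exists_le_sylow
  obtain ⟨m, hm⟩ := MulAction.exists_smul_eq H S' S
  refine ⟨m, m.2, ?_⟩
  have h1 : MulAut.conj m • U.subgroupOf H ≤ (S : Subgroup H) := by
    rw [← hm]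
    exact pointwise_smul_le_pointwise_smul_iff.2 hS'
  have h2 := map_mono (f := H.subtype) h1
  rwa [conj_smul_map, map_subgroupOf_eq_of_le hUH, show (S : Subgroup H) = T.subgroupOf H from rfl,
    map_subgroupOf_eq_of_le hT] at h2

/-- A `p`-subgroup containing a subgroup of `p'`-index has the same elements. -/
theorem eq_of_le_of_relIndex {H T U : Subgroup G} (hU : IsPGroup p U) (hTU : T ≤ U) (hUH : U ≤ H)
    (hidx : ¬ p ∣ T.relIndex H) : T = U := by
  refine le_antisymm hTU (relIndex_eq_one.1 ?_)
  obtain ⟨k, hk⟩ := IsPGroup.index hU (T.subgroupOf U)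
  have hk' : T.relIndex U = p ^ k := hk
  rcases Nat.eq_zero_or_pos k with h | h
  · rw [hk', h, pow_zero]
  · exfalso
    refine hidx ((dvd_pow_self p h.ne').trans (hk' ▸ ?_))
    exact Dvd.intro _ (relIndex_mul_relIndex T U H hTU hUH)

/-- `Q` is a tame Sylow intersection partner of `P`. -/
def IsTame (P Q : Sylow p G) : Prop :=
  ¬ p ∣ ((P : Subgroup G) ⊓ normalizer (((P : Subgroup G) ⊓ Q : Subgroup G) : Set G)).relIndex
      (normalizer (((P : Subgroup G) ⊓ Q : Subgroup G) : Set G)) ∧
    ¬ p ∣ ((Q : Subgroup G) ⊓ normalizer (((P : Subgroup G) ⊓ Q : Subgroup G) : Set G)).relIndex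
      (normalizer (((P : Subgroup G) ⊓ Q : Subgroup G) : Set G))

/-- Conjugation of the subgroup `A ≤ P` by `g` (as `a ↦ g⁻¹ a g`) factors through normalizers of
tame intersections. -/
inductive Conn (P : Sylow p G) : Subgroup G → G → Prop
  | one (A : Subgroup G) : Conn P A 1
  | step (A : Subgroup G) (Q : Sylow p G) (x g : G) (hQ : IsTame P Q)
      (hA : A ≤ (P : Subgroup G) ⊓ Q)
      (hx : x ∈ normalizer (((P : Subgroup G) ⊓ Q : Subgroup G) : Set G))
      (h : Conn P (MulAut.conj x⁻¹ • A) g) : Conn P A (x * g)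

variable {P : Sylow p G}

theorem Conn.mono {A : Subgroup G} {g : G} (h : Conn P A g) :
    ∀ {A' : Subgroup G}, A' ≤ A → Conn P A' g := by
  induction h with
  | one A => exact fun _ => Conn.one _
  | step A Q x g hQ hA hx _ ih =>
    exact fun hle => Conn.step _ Q x g hQ (hle.trans hA) hx
      (ih (pointwise_smul_le_pointwise_smul_iff.2 hle))

theorem Conn.trans {A : Subgroup G} {g : G} (h : Conn P A g) :
    ∀ {k : G}, Conn P (MulAut.conj g⁻¹ • A) k → Conn P A (g * k) := by
  induction h with
  | one A => exact fun hk => by simpa using hk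
  | step A Q x g hQ hA hx _ ih =>
    intro k hk
    rw [mul_assoc]
    refine Conn.step _ Q x _ hQ hA hx (ih ?_)
    rwa [mul_inv_rev, conj_smul_mul] at hk

theorem Conn.single {A : Subgroup G} (Q : Sylow p G) {x : G} (hQ : IsTame P Q)
    (hA : A ≤ (P : Subgroup G) ⊓ Q)
    (hx : x ∈ normalizer (((P : Subgroup G) ⊓ Q : Subgroup G) : Set G)) : Conn P A x := by
  simpa using Conn.step A Q x 1 hQ hA hx (Conn.one _)

theorem Conn.symm {A : Subgroup G} {g : G} (h : Conn P A g) :
    Conn P (MulAut.conj g⁻¹ • A) g⁻¹ := by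
  induction h with
  | one A => simpa using Conn.one _
  | step A Q x g hQ hA hx _ ih =>
    rw [mul_inv_rev, conj_smul_mul]
    refine ih.trans ?_
    rw [inv_inv, ← conj_smul_mul g, mul_inv_cancel, map_one, one_smul]
    refine Conn.single Q hQ ?_ (inv_mem hx)
    rw [← conj_smul_eq_iff_mem_normalizer.2 (inv_mem hx)]
    exact pointwise_smul_le_pointwise_smul_iff.2 hA

theorem isTame_self (P : Sylow p G) : IsTame P P := by
  have hle : (P : Subgroup G) ⊓ P = P := inf_idem _
  have h : ¬ p ∣ (P : Subgroup G).relIndex (normalizer ((P : Subgroup G) : Set G)) :=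
    fun hd => P.not_dvd_index (hd.trans (relIndex_dvd_index_of_le le_normalizer))
  constructor <;>
  · rw [hle, inf_eq_left.2 le_normalizer]
    exact h

theorem alperin_aux (n : ℕ) : ∀ (A : Subgroup G) (g : G), Nat.card P - Nat.card A = n →
    A ≤ P → MulAut.conj g⁻¹ • A ≤ P → Conn P A g := by
  induction n using Nat.strongRecOn with | ind n ih => ?_
  rintro A g rfl hA hgA
  rcases eq_or_lt_of_le hA with rfl | hlt
  · refine Conn.single P (isTame_self P) (le_inf le_rfl le_rfl) ?_
    have he : MulAut.conj g⁻¹ • (P : Subgroup G) = P :=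
      eq_of_le_of_card_le hgA (by rw [card_conj_smul])
    rw [inf_idem]
    simpa using inv_mem (conj_smul_eq_iff_mem_normalizer.1 he)
  have hrec : ∀ (A' : Subgroup G) (g' : G), Nat.card A < Nat.card A' → A' ≤ P →
      MulAut.conj g'⁻¹ • A' ≤ P → Conn P A' g' := fun A' g' h h1 h2 =>
    ih _ (by have := Subgroup.card_le_of_le h1; omega) A' g' rfl h1 h2
  -- a fully normalized conjugate `C` of `A`
  set B := MulAut.conj g⁻¹ • A
  obtain ⟨S₀, hS₀⟩ := ((P.2.to_le (inf_le_left :
    (P : Subgroup G) ⊓ normalizer (A : Set G) ≤ P)).comap_subtype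
      (K := normalizer (A : Set G))).exists_le_sylow
  set S := (S₀ : Subgroup ↥(normalizer (A : Set G))).map (normalizer (A : Set G)).subtype
  have hSN : S ≤ normalizer (A : Set G) := map_subtype_le _
  have hPS : (P : Subgroup G) ⊓ normalizer (A : Set G) ≤ S := by
    rw [← map_subgroupOf_eq_of_le (inf_le_right :
      (P : Subgroup G) ⊓ normalizer (A : Set G) ≤ normalizer (A : Set G))]
    exact map_mono hS₀
  obtain ⟨k, -, hk⟩ := exists_conj_le_of_sylow_relIndex (H := (⊤ : Subgroup G)) (T := (P : Subgroup G))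
    le_top P.2 (by rw [relIndex_top_right]; exact P.not_dvd_index) (S₀.2.map _) le_top
  set C := MulAut.conj k • A
  have hCP : C ≤ P :=
    (pointwise_smul_le_pointwise_smul_iff.2 ((le_inf hA le_normalizer).trans hPS)).trans hk
  set N := normalizer (C : Set G)
  have hNeq : MulAut.conj k • normalizer (A : Set G) = N := by
    ext x
    rw [mem_conj_smul, ← conj_smul_eq_iff_mem_normalizer, ← conj_smul_eq_iff_mem_normalizer]
    show _ ↔ MulAut.conj x • MulAut.conj k • A = MulAut.conj k • A
    rw [conj_smul_mul, conj_smul_mul]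
    constructor
    · intro h
      have := congr_arg (MulAut.conj k • ·) h
      rwa [← conj_smul_mul k k⁻¹, mul_inv_cancel, map_one, one_smul] at this
    · intro h
      rw [h, conj_smul_inv_smul]
  set T := (P : Subgroup G) ⊓ N
  have hST : MulAut.conj k • S ≤ T :=
    le_inf hk (hNeq ▸ pointwise_smul_le_pointwise_smul_iff.2 hSN)
  have hTidx : ¬ p ∣ T.relIndex N := by
    have h1 : ¬ p ∣ (MulAut.conj k • S).relIndex N := by
      rw [← hNeq, conj_smul_eq_map, conj_smul_eq_map, relIndex_map_map_of_injective _ _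
        (MulAut.conj k).injective]
      show ¬ p ∣ (S.subgroupOf (normalizer (A : Set G))).index
      rw [show S.subgroupOf (normalizer (A : Set G)) = (S₀ : Subgroup _) from
        comap_map_eq_self_of_injective (subtype_injective _) _]
      exact S₀.not_dvd_index
    exact fun h => h1 (h.trans (relIndex_dvd_of_le_left N hST))
  have hT : IsPGroup p T := P.2.to_le inf_le_left
  -- conjugation of `A` into `C`
  have hAC : Conn P A k⁻¹ := by
    refine (hrec _ k⁻¹ (card_lt_of_lt (lt_inf_normalizer P.2 hlt)) inf_le_left ?_).mono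
      (le_inf hA le_normalizer)
    rw [inv_inv]
    exact (pointwise_smul_le_pointwise_smul_iff.2 hPS).trans (hST.trans inf_le_left)
  -- conjugation of `B` into `C`
  have hBcard : Nat.card B = Nat.card A := card_conj_smul _ _
  have hBlt : B < P := lt_of_le_of_ne hgA fun h => by
    have := card_lt_of_lt hlt
    rw [← hBcard, h] at this
    exact lt_irrefl _ this
  have hBN : MulAut.conj (k * g) • ((P : Subgroup G) ⊓ normalizer (B : Set G)) ≤ N := by
    intro x hx
    rw [mem_conj_smul] at hx
    have h2 := conj_smul_eq_iff_mem_normalizer.2 hx.2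
    rw [← hNeq, mem_conj_smul, ← conj_smul_eq_iff_mem_normalizer]
    have h3 := congr_arg (MulAut.conj g • ·) h2
    simp only [B, ← conj_smul_mul, mul_inv_cancel, map_one, one_smul] at h3
    convert h3 using 3
    group
  obtain ⟨m, hm, hm'⟩ := exists_conj_le_of_sylow_relIndex (H := N) (T := T) inf_le_right hT hTidx
    ((P.2.to_le inf_le_left).map _) hBN
  have hBC : Conn P B (m * (k * g))⁻¹ := by
    refine (hrec _ (m * (k * g))⁻¹ (hBcard ▸ card_lt_of_lt (lt_inf_normalizer P.2 hBlt))
      inf_le_left ?_).mono (le_inf hgA le_normalizer)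
    rw [inv_inv, conj_smul_mul]
    exact hm'.trans inf_le_left
  -- elements of `N`
  have hNconn : ∀ x ∈ N, Conn P C x := by
    intro x hx
    have hCT : C ≤ T := le_inf hCP le_normalizer
    have hCx : C ≤ MulAut.conj x • T := by
      rw [← conj_smul_eq_iff_mem_normalizer.2 hx]
      exact pointwise_smul_le_pointwise_smul_iff.2 hCT
    rcases eq_or_lt_of_le (le_inf hCT hCx) with he | hgt
    · obtain ⟨Q, hQ⟩ := (hT.map (MulAut.conj x).toMonoidHom).exists_le_sylow
      rw [← conj_smul_eq_map] at hQ
      have hxN : MulAut.conj x • N = N := conj_smul_self_of_mem hx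
      have hTx : MulAut.conj x • T ≤ N := by
        rw [← hxN]; exact pointwise_smul_le_pointwise_smul_iff.2 inf_le_right
      have hQidx : ¬ p ∣ (MulAut.conj x • T).relIndex N := by
        rw [← hxN, conj_smul_eq_map, conj_smul_eq_map,
          relIndex_map_map_of_injective _ _ (MulAut.conj x).injective]
        exact hTidx
      have hQN : MulAut.conj x • T = (Q : Subgroup G) ⊓ N :=
        eq_of_le_of_relIndex (Q.2.to_le inf_le_left) (le_inf hQ hTx) inf_le_right hQidx
      have hinter : (P : Subgroup G) ⊓ Q = C := by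
        by_contra hne
        have hlt' : C < (P : Subgroup G) ⊓ Q :=
          lt_of_le_of_ne (le_inf hCP (hCx.trans hQ)) (Ne.symm hne)
        refine (lt_inf_normalizer (P.2.to_le inf_le_left) hlt').not_ge ?_
        conv_rhs => rw [he, hQN]
        exact le_inf (le_inf (inf_le_left.trans inf_le_left) inf_le_right)
          (le_inf (inf_le_left.trans inf_le_right) inf_le_right)
      refine Conn.single Q ⟨?_, ?_⟩ hinter.ge (hinter.symm ▸ hx)
      · rw [hinter]; exact hTidx
      · rw [hinter, ← hQN]; exact hQidx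
    · have hcard : Nat.card A < Nat.card ↥(T ⊓ MulAut.conj x • T) := by
        have := card_lt_of_lt hgt
        rwa [show Nat.card C = Nat.card A from card_conj_smul _ _] at this
      refine (hrec _ x hcard (inf_le_left.trans inf_le_left) ?_).mono (le_inf hCT hCx)
      refine le_trans (pointwise_smul_le_pointwise_smul_iff.2 inf_le_right) ?_
      rw [conj_smul_inv_smul]
      exact inf_le_left
  have hgeq : g = k⁻¹ * (m⁻¹ * (m * (k * g))) := by group
  rw [hgeq]
  refine hAC.trans ?_
  rw [inv_inv]
  refine (hNconn m⁻¹ (inv_mem hm)).trans ?_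
  have := hBC.symm
  rw [inv_inv] at this
  convert this using 1
  rw [inv_inv, ← conj_smul_mul, ← conj_smul_mul]
  congr 2
  group

/-- **Alperin's fusion theorem**. -/
theorem alperin {A : Subgroup G} {g : G} (hA : A ≤ P) (hgA : MulAut.conj g⁻¹ • A ≤ P) :
    Conn P A g :=
  alperin_aux _ A g rfl hA hgA

/-- Conversion to lists. -/
theorem Conn.exists_fin {A : Subgroup G} {g : G} (h : Conn P A g) :
    ∃ (n : ℕ) (Q : Fin n → Sylow p G) (x : Fin n → G), (List.ofFn x).prod = g ∧
      (∀ i, x i ∈ normalizer (((P : Subgroup G) ⊓ Q i : Subgroup G) : Set G) ∧ IsTame P (Q i)) ∧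
      ∀ i : Fin n, MulAut.conj ((List.ofFn x).take i.val).prod⁻¹ • A ≤ (P : Subgroup G) ⊓ Q i := by
  induction h with
  | one A => exact ⟨0, Fin.elim0, Fin.elim0, by simp, fun i => i.elim0, fun i => i.elim0⟩
  | step A Q x g hQ hA hx _ ih =>
    obtain ⟨n, Qs, xs, hprod, hxs, hchain⟩ := ih
    refine ⟨n + 1, Fin.cons Q Qs, Fin.cons x xs, ?_, ?_, ?_⟩
    · rw [List.ofFn_cons, List.prod_cons, hprod]
    · exact Fin.cases ⟨by simpa using hx, by simpa using hQ⟩ (fun i => by simpa using hxs i)
    · refine Fin.cases (by simpa using hA) fun i => ?_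
      rw [List.ofFn_cons, Fin.val_succ, List.take_succ_cons, List.prod_cons, Fin.cons_succ,
        mul_inv_rev, conj_smul_mul]
      exact hchain i

end CfsgLib.Fusion
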