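import Cfsg.Agent.Transfer.Alperin
import Cfsg.Agent.Solvable.CoprimeIndex

/-!
Transfer to the focal quotient and Frobenius' normal `p`-complement theorem.
-/

set_option autoImplicit false
set_option linter.style.haveILetI false
set_option linter.deprecated false
set_option linter.unusedSectionVars false

namespace CfsgLib.Fusion

open Subgroup Pointwise CfsgLib.Solvable CfsgLib.SZ CfsgLib.PResidual
open scoped commutatorElement

universe u

variable {G : Type u} [Group G] [Finite G] {p : ℕ} [hp : Fact p.Prime]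

/-- `O^p(G)` lies in the kernel of the transfer into the focal quotient. -/
theorem pResidual_le_ker_transferFocal (P : Sylow p G) :
    Cfsg.pResidual p G ≤ P.transferFocal.ker := by
  obtain ⟨k, hk⟩ := IsPGroup.iff_card.1 (P.2.to_quotient P.focalSubgroupOf)
  refine pResidual_le (k := k) ?_
  rw [index_ker, ← hk, MonoidHom.range_eq_top.2 (Subgroup.transferFocal_surjective P), card_top]

theorem inf_pResidual_le_focal (P : Sylow p G) :
    (P : Subgroup G) ⊓ Cfsg.pResidual p G ≤ (P : Subgroup G).focalSubgroup := by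
  rw [← Subgroup.ker_transferFocal_inf_eq_focalSubgroup P]
  exact le_inf (inf_le_right.trans (pResidual_le_ker_transferFocal P)) inf_le_left

/-- A normal supplement to `P` meeting it exactly in the focal subgroup. -/
theorem exists_focal_supplement (P : Sylow p G) :
    ∃ N : Subgroup G, N.Normal ∧ N ⊓ (P : Subgroup G) = (P : Subgroup G).focalSubgroup ∧
      N ⊔ (P : Subgroup G) = ⊤ ∧ ∃ k, N.index = p ^ k := by
  refine ⟨P.transferFocal.ker, inferInstance, Subgroup.ker_transferFocal_inf_eq_focalSubgroup P,
    ?_, ?_⟩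
  · rw [eq_top_iff]
    intro g _
    obtain ⟨y, hy⟩ := Subgroup.focalSubgroupOf.pow_index_surjective P (P.transferFocal g)
    obtain ⟨y, rfl⟩ := QuotientGroup.mk'_surjective _ y
    have hy' : P.transferFocal (y : G) = P.transferFocal g :=
      (Subgroup.transferFocal_eq_pow (P : Subgroup G) y).trans hy
    have e : g = (g * (y : G)⁻¹) * y := by group
    rw [e]
    refine mul_mem_sup ?_ y.2
    rw [MonoidHom.mem_ker, map_mul, map_inv, hy', mul_inv_cancel]
  · obtain ⟨k, hk⟩ := IsPGroup.iff_card.1 (P.2.to_quotient P.focalSubgroupOf)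
    refine ⟨k, ?_⟩
    rw [index_ker, ← hk, MonoidHom.range_eq_top.2 (Subgroup.transferFocal_surjective P), card_top]

/-- `p'`-elements normalizing a `p`-subgroup centralize it. -/
def LocalCondition (p : ℕ) (G : Type u) [Group G] : Prop :=
  ∀ Q : Subgroup G, IsPGroup p Q → ∀ g ∈ normalizer (Q : Set G),
    (orderOf g).Coprime p → g ∈ centralizer (Q : Set G)

theorem exists_mem_sylow_of_localCondition (hLC : LocalCondition p G) {P : Sylow p G}
    {A : Subgroup G} {g : G} (h : Conn P A g) :
    ∃ h ∈ P, ∀ a ∈ A, g⁻¹ * a * g = h⁻¹ * a * h := by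
  induction h with
  | one A => exact ⟨1, one_mem _, fun a _ => rfl⟩
  | step A Q x g hQ hA hx _ ih =>
    obtain ⟨h, hh, hg⟩ := ih
    set I := (P : Subgroup G) ⊓ Q
    set N := normalizer (I : Set G)
    have hI : IsPGroup p I := P.2.to_le inf_le_left
    haveI hCn : ((centralizer (I : Set G)).subgroupOf N).Normal :=
      normal_subgroupOf_iff_le_normalizer (centralizer_le_normalizer _) |>.2 fun n hn => by
        rw [mem_normalizer_iff'']
        intro c
        constructor <;> intro hc <;> refine mem_centralizer_iff.2 fun i hi => ?_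
        · have h1 := mem_centralizer_iff.1 hc _ ((mem_normalizer_iff.1 hn i).1 hi)
          calc i * (n⁻¹ * c * n) = n⁻¹ * ((n * i * n⁻¹) * c) * n := by group
            _ = n⁻¹ * (c * (n * i * n⁻¹)) * n := by rw [h1]
            _ = n⁻¹ * c * n * i := by group
        · have h1 := mem_centralizer_iff.1 hc _ ((mem_normalizer_iff''.1 hn i).1 hi)
          calc i * c = n * ((n⁻¹ * i * n) * (n⁻¹ * c * n)) * n⁻¹ := by group
            _ = n * ((n⁻¹ * c * n) * (n⁻¹ * i * n)) * n⁻¹ := by rw [h1]
            _ = c * i := by group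
    have hres : Cfsg.pResidual p N ≤ (centralizer (I : Set G)).subgroupOf N := by
      rw [Cfsg.pResidual, closure_le]
      intro y hy
      exact hLC I hI y y.2 (by rw [orderOf_coe]; exact hy)
    obtain ⟨k, hk⟩ := exists_index_pResidual (G := N) (p := p)
    have hcop : ((centralizer (I : Set G)).subgroupOf N).index.Coprime
        (((P : Subgroup G) ⊓ N).subgroupOf N).index :=
      ((hp.out.coprime_iff_not_dvd.2 hQ.1).pow_left k).coprime_dvd_left
        (hk ▸ index_dvd_of_le hres)
    obtain ⟨c, hc, t, ht, hxe⟩ := CfsgLib.CoprimeIndex.exists_mul_eq hcop ⟨x, hx⟩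
    refine ⟨t * h, mul_mem ht.1 hh, fun a ha => ?_⟩
    have hxe' : x = (c : G) * t := congr_arg Subtype.val hxe
    have hac : a * c = c * a := mem_centralizer_iff.1 hc a (hA ha)
    have hxa : x⁻¹ * a * x = (t : G)⁻¹ * a * t :=
      calc x⁻¹ * a * x = (t : G)⁻¹ * ((c : G)⁻¹ * (a * c)) * t := by rw [hxe']; group
        _ = (t : G)⁻¹ * a * t := by rw [hac]; group
    have hg' := hg (x⁻¹ * a * x) (by rw [mem_conj_smul]; simpa [mul_assoc] using ha)
    calc (x * g)⁻¹ * a * (x * g) = g⁻¹ * (x⁻¹ * a * x) * g := by group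
      _ = h⁻¹ * (x⁻¹ * a * x) * h := hg'
      _ = h⁻¹ * ((t : G)⁻¹ * a * t) * h := by rw [hxa]
      _ = ((t : G) * h)⁻¹ * a * ((t : G) * h) := by group

theorem fusion_of_localCondition (hLC : LocalCondition p G) (P : Sylow p G) {a g : G}
    (ha : a ∈ P) (hag : g⁻¹ * a * g ∈ P) : ∃ h ∈ P, g⁻¹ * a * g = h⁻¹ * a * h := by
  obtain ⟨h, hh, he⟩ := exists_mem_sylow_of_localCondition hLC
    (alperin (P := P) (A := zpowers a) (g := g) (zpowers_le.2 ha) (by
      rw [conj_smul_eq_map, MonoidHom.map_zpowers, zpowers_le]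
      simp only [MulEquiv.coe_toMonoidHom, MulAut.conj_apply, inv_inv]
      exact hag))
  exact ⟨h, hh, he a (mem_zpowers a)⟩

theorem localCondition_of_injective {H : Type u} [Group H] (f : H →* G)
    (hf : Function.Injective f) (hLC : LocalCondition p G) : LocalCondition p H := by
  intro Q hQ g hg hg'
  have h := hLC (Q.map f) (hQ.map f) (f g) (le_normalizer_map f (mem_map_of_mem f hg))
    (hg'.coprime_dvd_left (orderOf_map_dvd f g))
  refine mem_centralizer_iff.2 fun q hq => hf ?_
  rw [map_mul, map_mul]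
  exact mem_centralizer_iff.1 h (f q) (mem_map_of_mem f hq)

theorem frobenius_aux (n : ℕ) : ∀ (G : Type u) [Group G] [Finite G], Nat.card G = n →
    LocalCondition p G → Cfsg.HasNormalPComplement p G := by
  induction n using Nat.strongRecOn with | ind n ih => ?_
  rintro G _ _ rfl hLC
  obtain ⟨P⟩ := (inferInstance : Nonempty (Sylow p G))
  by_cases hP : (P : Subgroup G) = ⊥
  · refine hasNormalPComplement_of_normal (N := (⊤ : Subgroup G)) (k := 0) ?_ (by simp)
    rw [card_top]
    refine coprime_of_not_dvd hp.out fun h => ?_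
    exact P.ne_bot_of_dvd_card h hP
  -- the focal subgroup is the derived subgroup of `P`
  have hfoc : (P : Subgroup G).focalSubgroup < P := by
    have hle : (P : Subgroup G).focalSubgroup ≤ ⁅(P : Subgroup G), (P : Subgroup G)⁆ := by
      rw [focalSubgroup_def, closure_le]
      rintro z ⟨hz, x, hx, u, rfl⟩
      have hux : u * x⁻¹ * u⁻¹ ∈ P := by
        have h2 : ⁅x, u⁆ = x * (u * x⁻¹ * u⁻¹) := by simp [commutatorElement_def, mul_assoc]
        rw [h2] at hz
        have h3 := mul_mem (inv_mem hx) hz
        rw [inv_mul_cancel_left] at h3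
        exact h3
      obtain ⟨h, hh, he⟩ := fusion_of_localCondition hLC P (g := u⁻¹) (inv_mem hx)
        (by rwa [inv_inv])
      rw [inv_inv] at he
      have : ⁅x, u⁆ = ⁅x, h⁻¹⁆ := by
        simp only [commutatorElement_def, inv_inv, mul_assoc] at he ⊢
        rw [he]
      rw [SetLike.mem_coe, this]
      exact commutator_mem_commutator hx (inv_mem hh)
    refine lt_of_le_of_lt hle ?_
    haveI : Group.IsNilpotent P := P.2.isNilpotent
    haveI : Nontrivial P := (nontrivial_iff_ne_bot _).2 hP
    have h := Group.IsSolvable.commutator_lt_top_of_nontrivial P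
    rw [← map_subtype_lt_map_subtype, map_subtype_commutator] at h
    rwa [← MonoidHom.range_eq_map, range_subtype] at h
  obtain ⟨N, hN, hNP, hsup, k, hk⟩ := exists_focal_supplement P
  have hNtop : N ≠ ⊤ := fun h => hfoc.ne (by rw [← hNP, h, top_inf_eq])
  have hNC := ih _ (card_lt_of_ne_top hNtop) N rfl
    (localCondition_of_injective N.subtype N.subtype_injective hLC)
  rw [hasNormalPComplement_iff] at hNC
  haveI := hN
  obtain ⟨j, hj⟩ := exists_index_pResidual (G := N) (p := p)
  refine hasNormalPComplement_of_normal (N := (Cfsg.pResidual p N).map N.subtype) (k := j + k) ?_ ?_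
  · rwa [card_map_of_injective N.subtype_injective]
  · rw [index_map_subtype, hj, hk, pow_add]

/-- **Frobenius' normal `p`-complement theorem**. -/
theorem hasNormalPComplement_of_localCondition (h : LocalCondition p G) :
    Cfsg.HasNormalPComplement p G :=
  frobenius_aux _ G rfl h

theorem localCondition_of_hasNormalPComplement (h : Cfsg.HasNormalPComplement p G) :
    LocalCondition p G := by
  rw [hasNormalPComplement_iff] at h
  intro Q hQ g hg hg'
  obtain ⟨k, hk⟩ := IsPGroup.iff_card.1 hQ
  refine mem_centralizer_iff.2 fun q hq => ?_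
  rw [← commutatorElement_eq_one_iff_mul_comm]
  have h1 : ⁅q, g⁆ ∈ Q := by
    rw [show ⁅q, g⁆ = q * (g * q⁻¹ * g⁻¹) by simp [commutatorElement_def, mul_assoc]]
    exact mul_mem hq ((mem_normalizer_iff.1 hg _).1 (inv_mem hq))
  have h2 : ⁅q, g⁆ ∈ Cfsg.pResidual p G := by
    rw [commutatorElement_def]
    exact mul_mem (Normal.conj_mem inferInstance _ (mem_pResidual p hg') q)
      (inv_mem (mem_pResidual p hg'))
  exact mem_bot.1 (inf_eq_bot_of_coprime (hk ▸ (h.symm.pow_left k)) ▸ ⟨h1, h2⟩)

/-- Frobenius' criterion in terms of the `p`-local subgroups. -/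
theorem hasNormalPComplement_iff_locals :
    Cfsg.HasNormalPComplement p G ↔ ∀ Q : Subgroup G, IsPGroup p Q → Q ≠ ⊥ →
      Cfsg.HasNormalPComplement p (normalizer (Q : Set G)) := by
  refine ⟨fun h Q _ _ => hasNormalPComplement_subgroup _ h,
    fun h => hasNormalPComplement_of_localCondition fun Q hQ g hg hg' => ?_⟩
  by_cases hQ1 : Q = ⊥
  · subst hQ1
    exact mem_centralizer_iff.2 fun q hq => by
      rw [SetLike.mem_coe, mem_bot] at hq
      simp [hq]
  have := localCondition_of_hasNormalPComplement (h Q hQ hQ1) (Q.subgroupOf _) hQ.comap_subtype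
    ⟨g, hg⟩ (by rw [← subgroupOf_normalizer_eq le_normalizer]; exact hg) (by rwa [orderOf_mk])
  refine mem_centralizer_iff.2 fun q hq => ?_
  exact congr_arg Subtype.val (mem_centralizer_iff.1 this ⟨q, le_normalizer hq⟩ hq)

end CfsgLib.Fusion
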