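import Mathlib.GroupTheory.SpecificGroups.Cyclic
import Mathlib.GroupTheory.Frattini
import Cfsg.Agent.Transfer.Frobenius
import Cfsg.Agent.Solvable.CoprimeAbelian

/-!
Elementary consequences of the focal subgroup theorem and of Burnside's fusion lemma.
-/

set_option autoImplicit false
set_option linter.style.haveILetI false
set_option linter.deprecated false
set_option linter.unusedSectionVars false

namespace CfsgLib.TransferBasic

open Subgroup Pointwise CfsgLib.Solvable CfsgLib.SZ CfsgLib.PResidual CfsgLib.Fusion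
open scoped commutatorElement

universe u

variable {G : Type u} [Group G] [Finite G] {p : ℕ} [hp : Fact p.Prime] (P : Sylow p G)

/-- **Burnside**: conjugate normal subsets of a Sylow subgroup are conjugate in its normalizer. -/
theorem fusion_normal_subsets (X Y : Set G)
    (hX : ∀ x ∈ P, (fun y => x * y * x⁻¹) '' X = X) (hY : ∀ x ∈ P, (fun y => x * y * x⁻¹) '' Y = Y)
    (g : G) (hg : (fun y => g * y * g⁻¹) '' X = Y) :
    ∃ n ∈ normalizer ((P : Subgroup G) : Set G), (fun y => n * y * n⁻¹) '' X = Y := by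
  let f : G → Set G → Set G := fun a S => (fun y => a * y * a⁻¹) '' S
  have hf : ∀ a b S, f (a * b) S = f a (f b S) := fun a b S => by
    simp only [f, Set.image_image]
    exact Set.image_congr fun y _ => by group
  have hf1 : ∀ S, f 1 S = S := fun S => by simp [f]
  let H : Subgroup G :=
    { carrier := {a | f a Y = Y}
      mul_mem' := fun {a b} (ha : f a Y = Y) (hb : f b Y = Y) => by
        show f (a * b) Y = Y
        rw [hf, hb, ha]
      one_mem' := hf1 Y
      inv_mem' := fun {a} (ha : f a Y = Y) => by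
        show f a⁻¹ Y = Y
        nth_rw 1 [← ha]
        rw [← hf, inv_mul_cancel, hf1] }
  have hPH : (P : Subgroup G) ≤ H := hY
  have hgPH : MulAut.conj g • (P : Subgroup G) ≤ H := by
    intro x hx
    rw [mem_conj_smul] at hx
    show f x Y = Y
    have h2 : f (g⁻¹ * x * g) X = X := hX _ hx
    rw [show x = g * (g⁻¹ * x * g) * g⁻¹ by group]
    show f (g * (g⁻¹ * x * g) * g⁻¹) Y = Y
    rw [← hg]
    show f (g * (g⁻¹ * x * g) * g⁻¹) (f g X) = f g X
    rw [← hf, mul_assoc _ g⁻¹ g, inv_mul_cancel, mul_one, hf, h2]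
  have hidx : ¬ p ∣ (P : Subgroup G).relIndex H :=
    fun h => P.not_dvd_index (h.trans (relIndex_dvd_index_of_le hPH))
  obtain ⟨h, hh, hle⟩ := exists_conj_le_of_sylow_relIndex hPH P.2 hidx (P.2.map _) hgPH
  refine ⟨h * g, conj_smul_eq_iff_mem_normalizer.1 ?_, ?_⟩
  · rw [conj_smul_mul]
    exact eq_of_le_of_card_le hle (by rw [card_conj_smul, card_conj_smul])
  · show f (h * g) X = Y
    rw [hf, show f g X = Y from hg]
    exact hh

/-- A generator of the focal subgroup: both `x` and `u * x * u⁻¹` lie in `P`. -/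
theorem conj_mem_of_commutator_mem {H : Subgroup G} {x u : G} (hx : x ∈ H) (hz : ⁅x, u⁆ ∈ H) :
    u * x * u⁻¹ ∈ H := by
  have h2 : ⁅x, u⁆ = x * (u * x⁻¹ * u⁻¹) := by simp [commutatorElement_def, mul_assoc]
  rw [h2] at hz
  have h3 := mul_mem (inv_mem hx) hz
  rw [inv_mul_cancel_left] at h3
  simpa [mul_assoc] using inv_mem h3

/-- If `Z` is central in `P` and weakly closed, its normalizer controls fusion of elements. -/
theorem exists_normalizer_conj {Z : Subgroup G} (hZ : Z ≤ centralizer ((P : Subgroup G) : Set G))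
    (hZP : Z ≤ P) (hW : ∀ g : G, Z.map (MulAut.conj g).toMonoidHom ≤ P →
      Z.map (MulAut.conj g).toMonoidHom = Z)
    {x u : G} (hx : x ∈ P) (hy : u * x * u⁻¹ ∈ P) :
    ∃ n ∈ normalizer (Z : Set G), n * x * n⁻¹ = u * x * u⁻¹ := by
  set y := u * x * u⁻¹
  set C := centralizer ({y} : Set G)
  have hZC : ∀ {w : G}, w ∈ P → Z ≤ centralizer ({w} : Set G) := fun {w} hw z hz =>
    mem_centralizer_singleton_iff.2 (mem_centralizer_iff.1 (hZ hz) w hw).symm
  have h1 : MulAut.conj u • Z ≤ C := by
    intro z hz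
    rw [mem_conj_smul] at hz
    have := mem_centralizer_singleton_iff.1 (hZC hx hz)
    refine mem_centralizer_singleton_iff.2 ?_
    calc z * y = u * ((u⁻¹ * z * u) * x) * u⁻¹ := by simp only [y]; group
      _ = u * (x * (u⁻¹ * z * u)) * u⁻¹ := by rw [this]
      _ = y * z := by simp only [y]; group
  obtain ⟨S, hS⟩ := ((P.2.to_le hZP).comap_subtype (K := C)).exists_le_sylow
  set S' := (S : Subgroup C).map C.subtype
  have hSidx : ¬ p ∣ S'.relIndex C := by
    rw [relIndex, show S'.subgroupOf C = (S : Subgroup C) from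
      comap_map_eq_self_of_injective (subtype_injective _) _]
    exact S.not_dvd_index
  obtain ⟨c, hc, hcS⟩ := exists_conj_le_of_sylow_relIndex (map_subtype_le _) (S.2.map C.subtype)
    hSidx ((P.2.to_le hZP).map _) h1
  obtain ⟨h, -, hh⟩ := exists_conj_le_of_sylow_relIndex (H := (⊤ : Subgroup G)) le_top P.2
    (by rw [relIndex_top_right]; exact P.not_dvd_index) (S.2.map C.subtype) le_top
  have hZS : Z ≤ S' := by
    rw [← map_subgroupOf_eq_of_le (hZC hy)]
    exact map_mono hS
  have e1 : MulAut.conj h • Z = Z :=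
    hW h ((pointwise_smul_le_pointwise_smul_iff.2 hZS).trans hh)
  have e2 : MulAut.conj (h * (c * u)) • Z = Z := by
    refine hW (h * (c * u)) ?_
    rw [← conj_smul_eq_map, conj_smul_mul, conj_smul_mul]
    exact (pointwise_smul_le_pointwise_smul_iff.2 hcS).trans hh
  refine ⟨c * u, conj_smul_eq_iff_mem_normalizer.1 ?_, ?_⟩
  · have := congr_arg (MulAut.conj h⁻¹ • ·) e2
    simp only [conj_smul_mul h, conj_smul_inv_smul] at this
    rw [this]
    nth_rw 1 [← e1]
    exact conj_smul_inv_smul h Z
  · have hcy : c * y = y * c := mem_centralizer_singleton_iff.1 hc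
    calc c * u * x * (c * u)⁻¹ = (c * y) * c⁻¹ := by simp only [y]; group
      _ = y := by rw [hcy]; group

theorem focal_le_of_weaklyClosed {Z : Subgroup G}
    (hZ : Z ≤ centralizer ((P : Subgroup G) : Set G)) (hW : Cfsg.IsWeaklyClosed Z P) :
    (P : Subgroup G).focalSubgroup ≤ ⁅normalizer (Z : Set G), normalizer (Z : Set G)⁆ := by
  rw [focalSubgroup_def, closure_le]
  rintro z ⟨hz, x, hx, u, rfl⟩
  obtain ⟨n, hn, he⟩ := exists_normalizer_conj P hZ hW.1 hW.2 hx
    (conj_mem_of_commutator_mem hx hz)
  have hxN : x ∈ normalizer (Z : Set G) := centralizer_le_normalizer _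
    (mem_centralizer_iff.2 fun z hz => (mem_centralizer_iff.1 (hZ hz) x hx).symm)
  have he2 : ⁅x, u⁆ = ⁅x, n⁆ := by
    have := congr_arg (fun t => x * t⁻¹) he
    simpa [commutatorElement_def, mul_assoc] using this.symm
  rw [SetLike.mem_coe, he2]
  exact commutator_mem_commutator hxN hn

/-! ### Abelian Sylow subgroups -/

theorem le_centralizer_self (hP : IsMulCommutative P) :
    (P : Subgroup G) ≤ centralizer ((P : Subgroup G) : Set G) :=
  le_centralizer_iff_isMulCommutative.2 hP

/-- A `p'`-subgroup `A` with `N(P) = P A`. -/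
theorem exists_normalizer_complement :
    ∃ A : Subgroup G, A ≤ normalizer ((P : Subgroup G) : Set G) ∧
      (Nat.card A).Coprime (Nat.card P) ∧
      (P : Subgroup G) ⊔ A = normalizer ((P : Subgroup G) : Set G) := by
  set N := normalizer ((P : Subgroup G) : Set G)
  have hPN : (P : Subgroup G) ≤ N := le_normalizer
  haveI : ((P : Subgroup G).subgroupOf N).Normal :=
    (normal_subgroupOf_iff_le_normalizer hPN).2 le_rfl
  have hidx : ¬ p ∣ ((P : Subgroup G).subgroupOf N).index :=
    fun h => P.not_dvd_index (h.trans (relIndex_dvd_index_of_le hPN))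
  obtain ⟨k, hk⟩ := IsPGroup.iff_card.1 P.2
  have hc : Nat.card ((P : Subgroup G).subgroupOf N) = p ^ k := by
    rw [Nat.card_congr (subgroupOfEquivOfLe hPN).toEquiv]; exact hk
  obtain ⟨B, hB⟩ := exists_right_complement'_of_coprime (N := (P : Subgroup G).subgroupOf N)
    (by rw [hc]; exact (hp.out.coprime_iff_not_dvd.2 hidx).pow_left k)
  refine ⟨B.map N.subtype, map_subtype_le _, ?_, ?_⟩
  · rw [card_map_of_injective N.subtype_injective, ← hB.symm.index_eq_card, hk]
    exact ((hp.out.coprime_iff_not_dvd.2 hidx).pow_left k).symm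
  · have := congr_arg (Subgroup.map N.subtype) hB.sup_eq_top
    rwa [Subgroup.map_sup, map_subgroupOf_eq_of_le hPN, ← MonoidHom.range_eq_map,
      range_subtype] at this

variable {P}

theorem inf_centralizer_complement (hP : IsMulCommutative P) {A : Subgroup G}
    (hA : (P : Subgroup G) ⊔ A = normalizer ((P : Subgroup G) : Set G)) :
    (P : Subgroup G) ⊓ centralizer (A : Set G) =
      (P : Subgroup G) ⊓ centralizer (normalizer ((P : Subgroup G) : Set G) : Set G) := by
  refine le_antisymm ?_ (inf_le_inf le_rfl (centralizer_le fun a ha => hA.le (mem_sup_right ha)))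
  intro x hx
  refine ⟨hx.1, ?_⟩
  have h : (P : Subgroup G) ⊔ A ≤ centralizer ({x} : Set G) := by
    refine sup_le (fun y hy => mem_centralizer_singleton_iff.2 ?_)
      fun a ha => mem_centralizer_singleton_iff.2 (mem_centralizer_iff.1 hx.2 a ha)
    exact mem_centralizer_iff.1 (le_centralizer_self P hP hx.1) y hy
  refine mem_centralizer_iff.2 fun n hn => ?_
  exact mem_centralizer_singleton_iff.1 (h (hA.ge hn))

theorem commutator_normalizer_eq (hP : IsMulCommutative P) {A : Subgroup G}
    (hA : (P : Subgroup G) ⊔ A = normalizer ((P : Subgroup G) : Set G)) :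
    ⁅(P : Subgroup G), normalizer ((P : Subgroup G) : Set G)⁆ = ⁅(P : Subgroup G), A⁆ := by
  have hAN : A ≤ normalizer ((P : Subgroup G) : Set G) := hA ▸ le_sup_right
  refine le_antisymm ?_ (commutator_mono le_rfl hAN)
  rw [commutator_le]
  intro x hx n hn
  rw [← hA, sup_comm, mem_sup_of_le_normalizer hAN] at hn
  obtain ⟨a, ha, y, hy, rfl⟩ := hn
  rw [commutatorElement_mul_right_eq_mul_conj,
    show ⁅x, y⁆ = 1 from commutatorElement_eq_one_iff_mul_comm.2
      (mem_centralizer_iff.1 (le_centralizer_self P hP hy) x hx), mul_one, mul_inv_cancel_right]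
  exact commutator_mem_commutator hx ha

theorem focal_eq_commutator (hP : IsMulCommutative P) :
    (P : Subgroup G).focalSubgroup =
      ⁅(P : Subgroup G), normalizer ((P : Subgroup G) : Set G)⁆ := by
  haveI := hP
  refine le_antisymm ?_ ?_
  · rw [focalSubgroup_def, closure_le]
    rintro z ⟨hz, x, hx, u, rfl⟩
    have hux := conj_mem_of_commutator_mem hx hz
    obtain ⟨n, hn, he⟩ := P.conj_eq_normalizer_conj_of_mem x u⁻¹ hx (by rwa [inv_inv])
    rw [inv_inv] at he
    have he2 : ⁅x, u⁆ = ⁅x, n⁻¹⁆ := by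
      have := congr_arg (fun t => x * t⁻¹) he
      simpa [commutatorElement_def, mul_assoc] using this
    rw [SetLike.mem_coe, he2]
    exact commutator_mem_commutator hx (inv_mem hn)
  · rw [commutator_le]
    intro x hx n hn
    refine subset_closure ⟨?_, x, hx, n, rfl⟩
    rw [show ⁅x, n⁆ = x * (n * x⁻¹ * n⁻¹) by simp [commutatorElement_def, mul_assoc]]
    exact mul_mem hx ((mem_normalizer_iff.1 hn _).1 (inv_mem hx))

/-- For abelian `P`: `P = focal × C_P(N(P))`. -/
theorem focal_disjoint_sup (hP : IsMulCommutative P) :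
    ((P : Subgroup G) ⊓ centralizer (normalizer ((P : Subgroup G) : Set G) : Set G)) ⊓
        (P : Subgroup G).focalSubgroup = ⊥ ∧
      ((P : Subgroup G) ⊓ centralizer (normalizer ((P : Subgroup G) : Set G) : Set G)) ⊔
        (P : Subgroup G).focalSubgroup = P := by
  haveI := hP
  obtain ⟨A, hAN, hcop, hA⟩ := exists_normalizer_complement P
  rw [focal_eq_commutator hP, commutator_normalizer_eq hP hA,
    ← inf_centralizer_complement hP hA]
  refine ⟨CfsgLib.CoprimeAct.fixed_inf_commutator_abelian hAN hcop, ?_⟩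
  have hs : Group.IsSolvable P := P.2.isNilpotent |> fun h => by haveI := h; infer_instance
  rw [sup_comm]
  exact CfsgLib.CoprimeAct.commutator_sup_centralizer hAN hcop (Or.inr hs)

theorem inf_center_inf_commutator_eq_bot (hP : IsMulCommutative P) :
    (P : Subgroup G) ⊓ commutator G ⊓ center G = ⊥ := by
  rw [eq_bot_iff, ← (focal_disjoint_sup hP).1, ← Subgroup.commutator_inf_eq_focalSubgroup]
  exact le_inf (le_inf (inf_le_left.trans inf_le_left)
    (inf_le_right.trans (center_le_centralizer _))) (le_inf (inf_le_left.trans inf_le_right)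
    (inf_le_left.trans inf_le_left))

theorem hasNormalPComplement_of_le_centralizer (P : Sylow p G)
    (h : normalizer ((P : Subgroup G) : Set G) ≤ centralizer ((P : Subgroup G) : Set G)) :
    Cfsg.HasNormalPComplement p G :=
  ⟨P, _, inferInstance, MonoidHom.ker_transferSylow_isComplement' P h⟩

/-- If the `p'`-elements of `N(P)` centralize the abelian `P` there is a normal complement. -/
theorem hasNormalPComplement_of_abelian (hP : IsMulCommutative P)
    (h : ∀ g ∈ normalizer ((P : Subgroup G) : Set G), (orderOf g).Coprime p →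
      g ∈ centralizer ((P : Subgroup G) : Set G)) : Cfsg.HasNormalPComplement p G := by
  obtain ⟨A, hAN, hcop, hA⟩ := exists_normalizer_complement P
  refine hasNormalPComplement_of_le_centralizer P
    (hA.ge.trans (sup_le (le_centralizer_self P hP) fun a ha => ?_))
  obtain ⟨k, hk⟩ := IsPGroup.iff_card.1 P.2
  rcases Nat.eq_zero_or_pos k with rfl | hk0
  · have : (P : Subgroup G) = ⊥ := eq_bot_of_card_eq _ (by simpa using hk)
    exact mem_centralizer_iff.2 fun q hq => by
      rw [this, SetLike.mem_coe, mem_bot] at hq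
      simp [hq]
  · refine h a (hAN ha) ((hcop.coprime_dvd_left (Subgroup.orderOf_dvd_natCard _ ha)).coprime_dvd_right ?_)
    exact hk ▸ dvd_pow_self p hk0.ne'

/-- With a cyclic Sylow `p`-subgroup: a normal complement, or it lies in `O^p`. -/
theorem cyclic_dichotomy (hP : IsCyclic P) :
    Cfsg.HasNormalPComplement p G ∨
      ((P : Subgroup G).focalSubgroup = P ∧
        (P : Subgroup G) ⊓ centralizer (normalizer ((P : Subgroup G) : Set G) : Set G) = ⊥) := by
  have hc : IsMulCommutative P := inferInstance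
  set C := (P : Subgroup G) ⊓ centralizer (normalizer ((P : Subgroup G) : Set G) : Set G)
  obtain ⟨hd, hs⟩ := focal_disjoint_sup hc
  by_cases hC : C = ⊥
  · right
    refine ⟨?_, hC⟩
    rw [show (P : Subgroup G) ⊓ centralizer (normalizer ((P : Subgroup G) : Set G) : Set G) = ⊥
      from hC, bot_sup_eq] at hs
    exact hs
  left
  set F := (P : Subgroup G).focalSubgroup
  have hF : F = ⊥ := by
    by_contra hF
    classical
    haveI := Fintype.ofFinite P
    have hgen : ∀ (X : Subgroup G), X ≤ P → X ≠ ⊥ → ∃ x : P, (x : G) ∈ X ∧ orderOf x = p := by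
      intro X hX hX1
      have hd : p ∣ Nat.card X :=
        ((P.2.to_le hX).card_eq_or_dvd).resolve_left fun h => hX1 (eq_bot_of_card_eq _ h)
      obtain ⟨x, hx⟩ := exists_prime_orderOf_dvd_card' p hd
      exact ⟨⟨x, hX x.2⟩, x.2, (orderOf_coe _).symm.trans ((orderOf_coe x).trans hx)⟩
    obtain ⟨x, hxC, hx⟩ := hgen C inf_le_left hC
    obtain ⟨y, hyF, hy⟩ := hgen F (focalSubgroup_le _) hF
    -- both generate the subgroup of order `p`
    have hcard : (Finset.univ.filter fun z : P => z ^ p = 1).card ≤ p :=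
      IsCyclic.card_pow_eq_one_le hp.out.pos
    have hsub : ∀ w : P, orderOf w = p →
        (zpowers w : Set P).toFinset = Finset.univ.filter fun z : P => z ^ p = 1 := by
      intro w hw
      refine Finset.eq_of_subset_of_card_le (fun z hz => ?_) (hcard.trans ?_)
      · obtain ⟨n, rfl⟩ := mem_zpowers_iff.1 (Set.mem_toFinset.1 hz)
        refine Finset.mem_filter.2 ⟨Finset.mem_univ _, ?_⟩
        have hwp : w ^ p = 1 := orderOf_dvd_iff_pow_eq_one.1 hw.dvd
        rw [← zpow_natCast, ← zpow_mul, mul_comm, zpow_mul, zpow_natCast, hwp, one_zpow]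
      · rw [Set.toFinset_card, ← Nat.card_eq_fintype_card]
        exact le_of_eq ((Nat.card_zpowers w).trans hw).symm
    have : y ∈ zpowers x := by
      have := (hsub y hy).trans (hsub x hx).symm
      rw [← SetLike.mem_coe, ← Set.mem_toFinset, ← this, Set.mem_toFinset]
      exact mem_zpowers y
    obtain ⟨n, rfl⟩ := mem_zpowers_iff.1 this
    have hxn : ((x ^ n : P) : G) ∈ C := by rw [SubgroupClass.coe_zpow]; exact zpow_mem hxC n
    have h1 : (x ^ n : P) = 1 := Subtype.ext (mem_bot.1 (hd ▸ ⟨hxn, hyF⟩))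
    rw [h1, orderOf_one] at hy
    exact hp.out.one_lt.ne hy
  refine hasNormalPComplement_of_le_centralizer P ?_
  rw [le_centralizer_iff, ← commutator_eq_bot_iff_le_centralizer, ← focal_eq_commutator hc]
  exact hF

end CfsgLib.TransferBasic
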