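import Cfsg.Agent.Transfer.Frobenius
import Cfsg.Agent.KnownB.SL23
import Cfsg.Agent.Invol.AutomizerSix
import Cfsg.Agent.InvChar.UniqueInvolution

/-!
Sections isomorphic to SL(2,3) in groups with quaternion Sylow 2-subgroups.
-/

set_option autoImplicit false
set_option linter.style.haveILetI false

namespace CfsgLib.QSection

open Subgroup CfsgLib.KnownB

/-- The candidate endomorphism with given images of the two generators. -/
def qMap (u v : QuaternionGroup 2) : QuaternionGroup 2 → QuaternionGroup 2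
  | QuaternionGroup.a i => u ^ i.val
  | QuaternionGroup.xa i => v * u ^ i.val

theorem qFun_mul : ∀ q r, qFun (q * r) = qFun q * qFun r := by decide +kernel

theorem qFun_inj : ∀ q r, qFun q = qFun r → q = r := by decide +kernel

theorem qFun_mem : ∀ q, qFun q ∈ Q8 := by decide +kernel

theorem qFun_ne : ∀ (q : QuaternionGroup 2) (t : SL23), t ^ 3 = 1 → t ≠ 1 → qFun q ≠ t ∧ qFun q ≠ t ^ 2 := by
  decide +kernel

set_option synthInstance.maxHeartbeats 200000 in
set_option synthInstance.maxSize 4096 in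
theorem qMap_realised : ∀ u v : QuaternionGroup 2,
    (∀ q r, qMap u v (q * r) = qMap u v q * qMap u v r) →
    qMap u v (qMap u v (qMap u v (QuaternionGroup.a 1))) = QuaternionGroup.a 1 →
    qMap u v (qMap u v (qMap u v (QuaternionGroup.xa 0))) = QuaternionGroup.xa 0 →
    ¬(u = QuaternionGroup.a 1 ∧ v = QuaternionGroup.xa 0) →
    ∃ t : SL23, t ^ 3 = 1 ∧ t ≠ 1 ∧ ∀ q, qFun (qMap u v q) = t * qFun q * t⁻¹ := by
  decide +kernel

theorem realised (θ : MulAut (QuaternionGroup 2)) (h3 : θ ^ 3 = 1) (h1 : θ ≠ 1) :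
    ∃ t : SL23, t ^ 3 = 1 ∧ t ≠ 1 ∧ ∀ q, qFun (θ q) = t * qFun q * t⁻¹ := by
  set u := θ (QuaternionGroup.a 1)
  set v := θ (QuaternionGroup.xa 0)
  have ha : ∀ i : ZMod (2 * 2), QuaternionGroup.a i = (QuaternionGroup.a 1 : QuaternionGroup 2) ^ i.val := fun i => by
    rw [QuaternionGroup.a_one_pow, ZMod.natCast_zmod_val]
  have he : ∀ q, qMap u v q = θ q := by
    intro q
    rcases q with i | i
    · show u ^ i.val = _
      rw [← map_pow, ← ha]
    · show v * u ^ i.val = _
      rw [← map_pow, ← ha, ← map_mul, QuaternionGroup.xa_mul_a, zero_add]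
  obtain ⟨t, h, h', ht⟩ := qMap_realised u v (fun q r => by simp only [he, map_mul])
    (by rw [he, he, he]; exact congrArg (fun e : MulAut _ => e _) h3)
    (by rw [he, he, he]; exact congrArg (fun e : MulAut _ => e _) h3)
    (fun ⟨hu, hv⟩ => h1 (MulEquiv.ext fun q => by
      rw [← he, hu, hv]
      rcases q with i | i
      · exact (ha i).symm
      · show QuaternionGroup.xa 0 * QuaternionGroup.a 1 ^ i.val = _
        rw [← ha, QuaternionGroup.xa_mul_a, zero_add]; rfl))
  exact ⟨t, h, h', fun q => by rw [← he, ht]⟩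

theorem zpow_intertwine {Q L : Type*} [Group Q] [Group L] (θ : MulAut Q) (ψ : Q →* L) (s : L)
    (h : ∀ x, ψ (θ x) = s * ψ x * s⁻¹) :
    ∀ (i : ℤ) (x : Q), ψ ((θ ^ i) x) = s ^ i * ψ x * (s ^ i)⁻¹ := by
  intro i
  induction i using Int.induction_on with
  | zero => intro x; simp
  | succ i ih =>
    intro x
    rw [zpow_add, zpow_one, MulAut.mul_apply, ih, h, zpow_add, zpow_one]; group
  | pred i ih =>
    intro x
    have h' : ψ (θ⁻¹ x) = s⁻¹ * ψ x * s := by
      have e := h (θ⁻¹ x)
      rw [MulAut.inv_apply, MulEquiv.apply_symm_apply] at e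
      rw [e]; simp [mul_assoc, MulAut.inv_apply]
    rw [zpow_sub, zpow_one, MulAut.mul_apply, ih, h', zpow_sub, zpow_one]; group

/-- An odd element acting nontrivially on a quaternion group of order eight gives a section
isomorphic to SL(2,3). -/
theorem exists_section {G : Type*} [Group G] [Finite G] (Q : Subgroup G)
    (e : Q ≃* QuaternionGroup 2) (g : G) (hg : g ∈ normalizer (Q : Set G))
    (ho : Odd (orderOf g)) (hgC : g ∉ centralizer (Q : Set G)) :
    ∃ (H K : Subgroup G) (_ : (K.subgroupOf H).Normal),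
      Nonempty ((H ⧸ K.subgroupOf H) ≃* SL23) := by
  set θ : MulAut Q :=
    { toFun := fun x => ⟨g * x * g⁻¹, (mem_normalizer_iff.1 hg _).1 x.2⟩
      invFun := fun x => ⟨g⁻¹ * x * g, (mem_normalizer_iff.1 hg _).2 (by simp [mul_assoc, x.2])⟩
      left_inv := fun x => Subtype.ext (by simp [mul_assoc])
      right_inv := fun x => Subtype.ext (by simp [mul_assoc])
      map_mul' := fun x y => Subtype.ext (by simp [mul_assoc]) }
  have hθ : ∀ x : Q, (θ x : G) = g * x * g⁻¹ := fun _ => rfl
  have hθi : ∀ (i : ℤ) (x : Q), Q.subtype ((θ ^ i) x) = g ^ i * Q.subtype x * (g ^ i)⁻¹ :=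
    zpow_intertwine θ Q.subtype g hθ
  have hθ1 : θ ≠ 1 := fun h => hgC (mem_centralizer_iff.2 fun q hq => by
    have := congrArg (fun e : MulAut Q => (e ⟨q, hq⟩ : G)) h
    simp only [hθ, MulAut.one_apply] at this
    calc q * g = g * q * g⁻¹ * g := by rw [this]
      _ = g * q := by group)
  have hθ3 : θ ^ 3 = 1 := by
    have h24 : θ ^ 24 = 1 := by
      rw [← CfsgLib.AutomizerSix.card_aut_quaternion e]
      exact pow_card_eq_one'
    have hn : θ ^ orderOf g = 1 := MulEquiv.ext fun x => Subtype.ext (by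
      have := hθi (orderOf g : ℤ) x
      rw [zpow_natCast, zpow_natCast, pow_orderOf_eq_one] at this
      simpa using this)
    have h8 : (Nat.gcd 24 (orderOf g)).Coprime 8 :=
      Nat.Coprime.coprime_dvd_left (Nat.gcd_dvd_right _ _)
        (by simpa using (Nat.coprime_two_right.2 ho).pow_right 3)
    have h3 : Nat.gcd 24 (orderOf g) ∣ 3 := h8.dvd_of_dvd_mul_right (show Nat.gcd 24 (orderOf g) ∣ 3 * 8 from Nat.gcd_dvd_left 24 _)
    obtain ⟨c, hc⟩ := h3
    rw [hc, pow_mul, pow_gcd_eq_one.2 ⟨h24, hn⟩, one_pow]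
  set θ' : MulAut (QuaternionGroup 2) := MulAut.congr e θ
  obtain ⟨t, ht3, ht1, htθ⟩ := realised θ' (by rw [← map_pow, hθ3, map_one])
    (fun h => hθ1 ((MulAut.congr e).injective (h.trans (map_one _).symm)))
  set ψ : Q →* SL23 := (MonoidHom.mk' qFun qFun_mul).comp e.toMonoidHom with hψ
  have hψθ : ∀ x, ψ (θ x) = t * ψ x * t⁻¹ := fun x => by
    have h := htθ (e x)
    simpa [hψ, θ', MulAut.congr] using h
  set φ : Multiplicative ℤ →* MulAut Q := zpowersHom _ θ
  set H := Q ⊔ zpowers g
  set K := zpowers (g ^ 3)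
  set π : Q ⋊[φ] Multiplicative ℤ →* G :=
    SemidirectProduct.lift Q.subtype (zpowersHom G g) (fun i => MonoidHom.ext fun x =>
      hθi i.toAdd x)
  set ρ : Q ⋊[φ] Multiplicative ℤ →* SL23 :=
    SemidirectProduct.lift ψ (zpowersHom SL23 t) (fun i => MonoidHom.ext fun x =>
      zpow_intertwine θ ψ t hψθ i.toAdd x)
  have hπ : ∀ a, π a = (a.left : G) * g ^ a.right.toAdd := fun a => rfl
  have hρ : ∀ a, ρ a = ψ a.left * t ^ a.right.toAdd := fun a => rfl
  have hπH : π.range = H := by
    refine le_antisymm ?_ (sup_le (fun q hq => ⟨SemidirectProduct.inl ⟨q, hq⟩, by simp [π]⟩)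
      (zpowers_le.2 ⟨SemidirectProduct.inr (Multiplicative.ofAdd 1), by simp [π]⟩))
    rintro _ ⟨a, rfl⟩
    rw [hπ]
    exact mul_mem (mem_sup_left a.left.2) (mem_sup_right (zpow_mem (mem_zpowers g) _))
  have h3C : g ^ 3 ∈ centralizer (Q : Set G) := mem_centralizer_iff.2 fun q hq => by
    have := hθi 3 ⟨q, hq⟩
    rw [zpow_ofNat, hθ3, zpow_ofNat] at this
    simp only [MulAut.one_apply, subtype_apply] at this
    calc q * g ^ 3 = g ^ 3 * q * (g ^ 3)⁻¹ * g ^ 3 := by rw [← this]
      _ = g ^ 3 * q := by group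
  have hK : (K.subgroupOf H).Normal := by
    refine (normal_subgroupOf_iff_le_normalizer (zpowers_le.2 (mem_sup_right (pow_mem (mem_zpowers g) 3)))).2
      (sup_le (fun q hq => ?_) (zpowers_le.2 ?_))
    · have hc : q ∈ centralizer (K : Set G) := mem_centralizer_iff.2 (by
        rintro _ ⟨i, rfl⟩
        exact ((Commute.zpow_right (show Commute q (g ^ 3) from mem_centralizer_iff.1 h3C q hq) i).symm).eq)
      exact centralizer_le_normalizer _ hc
    · refine centralizer_le_normalizer _ (mem_centralizer_iff.2 ?_)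
      rintro _ ⟨i, rfl⟩
      exact ((Commute.pow_left (Commute.refl g) 3).zpow_left i).eq
  refine ⟨H, K, hK, ?_⟩
  set π' : Q ⋊[φ] Multiplicative ℤ →* H ⧸ K.subgroupOf H :=
    (QuotientGroup.mk' _).comp (π.codRestrict H fun a => hπH.le ⟨a, rfl⟩)
  have hπ's : Function.Surjective π' := by
    refine (QuotientGroup.mk'_surjective _).comp fun x => ?_
    obtain ⟨a, ha⟩ : (x : G) ∈ π.range := hπH.ge x.2
    exact ⟨a, Subtype.ext ha⟩
  have hρs : Function.Surjective ρ := by
    rw [← MonoidHom.range_eq_top]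
    have h8 : 8 ∣ Nat.card ρ.range := by
      rw [← card_Q8]
      refine card_dvd_of_le fun x hx => ?_
      obtain ⟨f⟩ := quaternion_equiv
      have hinj : Function.Injective (MonoidHom.mk' (fun q => (⟨qFun q, qFun_mem q⟩ : Q8))
          fun q r => Subtype.ext (qFun_mul q r)) := fun q r h => qFun_inj q r (congrArg Subtype.val h)
      obtain ⟨q, hq⟩ := ((Nat.bijective_iff_injective_and_card _).2 ⟨hinj, Nat.card_congr f.symm.toEquiv⟩).2 ⟨x, hx⟩
      exact ⟨SemidirectProduct.inl (e.symm q), by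
        simpa [ρ, hψ] using congrArg Subtype.val hq⟩
    have h3 : 3 ∣ Nat.card ρ.range := by
      have : orderOf t = 3 := orderOf_eq_prime ht3 ht1
      refine (dvd_of_eq this.symm).trans ?_
      exact Subgroup.orderOf_dvd_natCard _ ⟨SemidirectProduct.inr (Multiplicative.ofAdd 1), by simp [ρ]⟩
    refine eq_top_of_card_eq _ (Nat.dvd_antisymm (card_subgroup_dvd_card _) ?_)
    rw [card_SL23]
    exact (by norm_num : Nat.Coprime 8 3).mul_dvd_of_dvd_of_dvd h8 h3
  have hker : π'.ker = ρ.ker := by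
    ext a
    rw [MonoidHom.mem_ker, MonoidHom.mem_ker, hρ]
    show (QuotientGroup.mk (⟨π a, _⟩ : H) : H ⧸ K.subgroupOf H) = 1 ↔ _
    rw [QuotientGroup.eq_one_iff, mem_subgroupOf]
    show π a ∈ K ↔ _
    rw [hπ]
    constructor
    · intro h
      obtain ⟨j, hj⟩ := h
      dsimp only at hj
      have hq : (a.left : G) = g ^ (3 * j - a.right.toAdd) := by
        rw [zpow_sub, zpow_mul, zpow_ofNat, hj, mul_inv_cancel_right]
      have hq1 : (a.left : G) = 1 := by
        refine orderOf_eq_one_iff.1 (Nat.eq_one_of_dvd_coprimes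
          (Nat.coprime_two_left.2 ho |>.pow_left 3) ?_ ?_)
        · rw [Subgroup.orderOf_coe, ← e.orderOf_eq]
          exact orderOf_dvd_card.trans (dvd_of_eq ((QuaternionGroup.card (n := 2)).trans (by norm_num)))
        · rw [hq]; exact orderOf_dvd_of_mem_zpowers (zpow_mem (mem_zpowers g) _)
      obtain ⟨d, hd⟩ : (3 : ℤ) ∣ a.right.toAdd := by
        by_contra h3
        have hgK : g ∈ K := by
          have hx : g ^ a.right.toAdd ∈ K := ⟨j, by simpa [hq1] using hj⟩
          have hcop : IsCoprime (3 : ℤ) a.right.toAdd :=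
            (Prime.coprime_iff_not_dvd Int.prime_three).2 h3
          obtain ⟨x, y, hxy⟩ := hcop
          have : g = ((g ^ 3) ^ x) * ((g ^ a.right.toAdd) ^ y) := by
            rw [← zpow_natCast, ← zpow_mul, ← zpow_mul, ← zpow_add]
            conv_lhs => rw [← zpow_one g, ← hxy]
            push_cast; ring_nf
          rw [this]
          exact mul_mem (zpow_mem (mem_zpowers _) _) (zpow_mem hx _)
        obtain ⟨i, hi⟩ := hgK
        exact hgC (hi ▸ zpow_mem h3C i)
      rw [show a.left = 1 from Subtype.ext hq1, map_one, one_mul, hd, zpow_mul, zpow_ofNat, ht3,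
        one_zpow]
    · intro h
      have hti : t ^ a.right.toAdd ∈ zpowers t := zpow_mem (mem_zpowers t) _
      have h2 : t ^ a.right.toAdd = (qFun (e a.left))⁻¹ := eq_inv_of_mul_eq_one_right h
      have hmod : t ^ a.right.toAdd = 1 ∨ t ^ a.right.toAdd = t ∨ t ^ a.right.toAdd = t ^ 2 := by
        have ho3 : orderOf t = 3 := orderOf_eq_prime ht3 ht1
        rw [← zpow_mod_orderOf, ho3]
        rcases (show a.right.toAdd % (3 : ℕ) = 0 ∨ a.right.toAdd % (3 : ℕ) = 1 ∨
          a.right.toAdd % (3 : ℕ) = 2 by omega) with h' | h' | h' <;> rw [h'] <;> simp [zpow_ofNat]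
      have hinv : (qFun (e a.left))⁻¹ = qFun (e a.left)⁻¹ :=
        (map_inv (MonoidHom.mk' qFun qFun_mul) _).symm
      rcases hmod with h' | h' | h'
      · have hq : a.left = 1 := e.injective (qFun_inj _ _ (by
          rw [map_one, show qFun 1 = 1 from map_one (MonoidHom.mk' qFun qFun_mul)]
          rw [h'] at h2
          exact inv_eq_one.1 h2.symm))
        have hd : (3 : ℤ) ∣ a.right.toAdd := by
          have := orderOf_dvd_iff_zpow_eq_one.2 h'
          rwa [orderOf_eq_prime ht3 ht1] at this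
        obtain ⟨d, hd⟩ := hd
        exact ⟨d, by simp [hq, hd, zpow_mul]⟩
      · exact absurd (hinv ▸ h2.symm.trans h') (qFun_ne _ t ht3 ht1).1
      · exact absurd (hinv ▸ h2.symm.trans h') (qFun_ne _ t ht3 ht1).2
  exact ⟨(QuotientGroup.quotientKerEquivOfSurjective π' hπ's).symm.trans
    ((QuotientGroup.quotientMulEquivOfEq hker).trans (QuotientGroup.quotientKerEquivOfSurjective ρ hρs))⟩

/-- Uniqueness of the involution. -/
theorem quaternion_involution {n : ℕ} (x y : QuaternionGroup (2 ^ n)) (hx : orderOf x = 2)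
    (hy : orderOf y = 2) : x = y := by
  have key : ∀ z : QuaternionGroup (2 ^ n), orderOf z = 2 → z = QuaternionGroup.a ((2 ^ n : ℕ) : ZMod (2 * 2 ^ n)) := by
    intro z hz
    rcases z with i | i
    · rw [QuaternionGroup.orderOf_a] at hz
      have hd := Nat.gcd_dvd_left (2 * 2 ^ n) i.val
      have hgcd : Nat.gcd (2 * 2 ^ n) i.val = 2 ^ n := by
        have h := Nat.div_mul_cancel hd
        rw [hz] at h; omega
      obtain ⟨c, hc⟩ := hgcd ▸ Nat.gcd_dvd_right (2 * 2 ^ n) i.val
      have hlt := ZMod.val_lt i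
      have hc2 : c < 2 := by
        by_contra h
        have : 2 ^ n * 2 ≤ 2 ^ n * c := Nat.mul_le_mul_left _ (by omega)
        omega
      rcases (show c = 0 ∨ c = 1 by omega) with rfl | rfl
      · rw [mul_zero] at hc
        rw [hc, Nat.gcd_zero_right] at hgcd
        have := Nat.two_pow_pos n
        omega
      · rw [mul_one] at hc
        exact congrArg QuaternionGroup.a ((ZMod.natCast_zmod_val i).symm.trans (congrArg Nat.cast hc))
    · rw [QuaternionGroup.orderOf_xa] at hz; omega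
  rw [key x hx, key y hy]

theorem centralizes_cyclic {G : Type*} [Group G] [Finite G] (C : Subgroup G) (hC : IsPGroup 2 C)
    [IsCyclic C] (g : G) (hg : g ∈ normalizer (C : Set G)) (ho : Odd (orderOf g)) :
    g ∈ centralizer (C : Set G) := by
  obtain ⟨k, hk⟩ := IsPGroup.iff_card.1 hC
  set θ := normalizerMonoidHom C ⟨g, hg⟩
  have h1 : θ ^ orderOf g = 1 := by
    rw [← map_pow, show (⟨g, hg⟩ : normalizer (C : Set G)) ^ orderOf g = 1 from
      Subtype.ext (by simp [pow_orderOf_eq_one]), map_one]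
  have h2 : θ ^ Nat.card (MulAut C) = 1 := pow_card_eq_one'
  rw [IsCyclic.card_mulAut, hk] at h2
  have hθ : θ = 1 := by
    rcases Nat.eq_zero_or_pos k with rfl | hk0
    · simpa using h2
    · rw [Nat.totient_prime_pow Nat.prime_two hk0, show (2 : ℕ) - 1 = 1 from rfl, mul_one] at h2
      have h3 := pow_gcd_eq_one.2 ⟨h1, h2⟩
      rwa [Nat.Coprime.gcd_eq_one ((Nat.coprime_two_right.2 ho).pow_right _), pow_one] at h3
  refine mem_centralizer_iff.2 fun c hc => ?_
  have h3 : g * c * g⁻¹ = c := congrArg (fun e : MulAut C => (e ⟨c, hc⟩ : G)) hθ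
  calc c * g = g * c * g⁻¹ * g := by rw [h3]
    _ = g * c := by group

/-- In a group with quaternion Sylow 2-subgroups and no section SL(2,3), odd elements centralize
the 2-subgroups they normalize. -/
theorem localCondition {G : Type*} [Group G] [Finite G] (T : Sylow 2 G) (n : ℕ)
    (e₀ : (T : Subgroup G) ≃* QuaternionGroup (2 ^ n))
    (hno : ¬ ∃ (H K : Subgroup G) (_ : (K.subgroupOf H).Normal),
      Nonempty ((H ⧸ K.subgroupOf H) ≃* SL23)) : CfsgLib.Fusion.LocalCondition 2 G := by
  intro Q hQ g hg hg'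
  have ho : Odd (orderOf g) := Nat.coprime_two_right.1 hg'
  by_contra hgC
  -- embed `Q` into the quaternion group
  obtain ⟨S, hS⟩ := hQ.exists_le_sylow
  set f : Q →* QuaternionGroup (2 ^ n) :=
    (e₀.toMonoidHom.comp (S.equiv T).toMonoidHom).comp (Subgroup.inclusion hS)
  have hf : Function.Injective f :=
    e₀.injective.comp ((S.equiv T).injective.comp (Subgroup.inclusion_injective hS))
  have hu : ∀ x y : Q, orderOf x = 2 → orderOf y = 2 → y ∈ zpowers x := fun x y hx hy => by
    rw [hf (quaternion_involution (f y) (f x) (by rwa [orderOf_injective f hf])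
      (by rwa [orderOf_injective f hf]))]
    exact mem_zpowers x
  rcases CfsgLib.UniqueInvol.cyclic_or_quaternion hQ hu with hc | ⟨-, k, hk, ⟨e⟩⟩
  · exact hgC (centralizes_cyclic Q hQ g hg ho)
  rcases Nat.lt_or_ge k 2 with hk2 | hk2
  · obtain rfl : k = 1 := by omega
    exact hno (exists_section Q e g hg ho hgC)
  haveI : NeZero (2 ^ k) := ⟨(Nat.two_pow_pos k).ne'⟩
  set a₀ : Q := e.symm (QuaternionGroup.a 1)
  set C := zpowers (a₀ : G)
  have hCQ : C ≤ Q := zpowers_le.2 a₀.2
  have hmemC : ∀ (x : Q) (i : ZMod (2 * 2 ^ k)), e x = QuaternionGroup.a i → (x : G) ∈ C := by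
    intro x i hx
    have : x = a₀ ^ i.val := e.injective (by
      rw [hx, map_pow, e.apply_symm_apply, QuaternionGroup.a_one_pow, ZMod.natCast_zmod_val])
    rw [this, SubmonoidClass.coe_pow]
    exact pow_mem (mem_zpowers _) _
  have hcj : ∀ h : G, h ∈ normalizer (Q : Set G) → h ∈ normalizer (C : Set G) := by
    have key : ∀ h ∈ normalizer (Q : Set G), h * (a₀ : G) * h⁻¹ ∈ C := by
      intro h hh
      have hm : h * (a₀ : G) * h⁻¹ ∈ Q := (mem_normalizer_iff.1 hh _).1 a₀.2
      rcases hcase : e ⟨_, hm⟩ with i | i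
      · exact hmemC _ i hcase
      · have h1 := congrArg orderOf hcase
        rw [e.orderOf_eq, QuaternionGroup.orderOf_xa, orderOf_mk,
          show h * (a₀ : G) * h⁻¹ = MulAut.conj h a₀ from rfl, MulEquiv.orderOf_eq,
          Subgroup.orderOf_coe, e.symm.orderOf_eq, QuaternionGroup.orderOf_a_one] at h1
        have : 2 ^ 2 ≤ 2 ^ k := Nat.pow_le_pow_right two_pos hk2
        omega
    intro h hh
    refine mem_normalizer_iff.2 fun x => ⟨fun hx => ?_, fun hx => ?_⟩
    · obtain ⟨i, rfl⟩ := hx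
      rw [← conj_zpow]; exact zpow_mem (key h hh) i
    · obtain ⟨i, hi⟩ := hx
      have e1 : x = (h⁻¹ * (a₀ : G) * h⁻¹⁻¹) ^ i := by
        rw [conj_zpow]; simp only at hi; rw [hi]; group
      rw [e1]; exact zpow_mem (key _ (inv_mem hh)) i
  haveI : IsCyclic C := inferInstance
  have hgc := centralizes_cyclic C (hQ.to_le hCQ) g (hcj g hg) ho
  apply hgC
  refine mem_centralizer_iff.2 fun q hq => ?_
  rcases hcase : e ⟨q, hq⟩ with i | i
  · exact mem_centralizer_iff.1 hgc q (hmemC _ i hcase)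
  have hm : g * q * g⁻¹ ∈ Q := (mem_normalizer_iff.1 hg _).1 hq
  rcases hcase' : e ⟨_, hm⟩ with j | j
  · exact mem_centralizer_iff.1 hgc q
      ((mem_normalizer_iff.1 (hcj g hg) q).2 (hmemC _ j hcase'))
  have hc : q⁻¹ * (g * q * g⁻¹) ∈ C := hmemC ((⟨q, hq⟩ : Q)⁻¹ * ⟨_, hm⟩) _ (by
    rw [map_mul, map_inv, hcase, hcase']; rfl)
  set c := q⁻¹ * (g * q * g⁻¹)
  have hgcc : c * g = g * c := mem_centralizer_iff.1 hgc c hc
  have hpow : ∀ m : ℕ, g ^ m * q * (g ^ m)⁻¹ = q * c ^ m := by
    intro m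
    induction m with
    | zero => simp
    | succ m ih =>
      calc g ^ (m + 1) * q * (g ^ (m + 1))⁻¹ = g * (g ^ m * q * (g ^ m)⁻¹) * g⁻¹ := by
            rw [pow_succ']; group
        _ = (g * q * g⁻¹) * (g * c ^ m * g⁻¹) := by rw [ih]; group
        _ = q * c * c ^ m := by
          rw [((Commute.symm hgcc).pow_right m).eq, mul_inv_cancel_right,
            show g * q * g⁻¹ = q * c by simp [c, mul_assoc]]
        _ = q * c ^ (m + 1) := by rw [pow_succ']; group
  have h1 := hpow (orderOf g)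
  rw [pow_orderOf_eq_one, inv_one, one_mul, mul_one] at h1
  have hc1 : c = 1 := by
    obtain ⟨l, hl⟩ := IsPGroup.iff_orderOf.1 (hQ.to_le hCQ) ⟨c, hc⟩
    rw [orderOf_mk] at hl
    exact orderOf_eq_one_iff.1 (Nat.eq_one_of_dvd_coprimes (hg'.pow_right l)
      (orderOf_dvd_of_pow_eq_one (mul_eq_left.1 h1.symm)) (dvd_of_eq hl))
  have h2 : g * q * g⁻¹ = q := by
    have : q * c = g * q * g⁻¹ := by simp [c, mul_assoc]
    rw [← this, hc1, mul_one]
  calc q * g = g * q * g⁻¹ * g := by rw [h2]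
    _ = g * q := by group

end CfsgLib.QSection
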