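import Cfsg.Agent.LocalB.Tate
import Cfsg.Agent.Transfer.Basic

/-!
Tate's theorem relative to a subgroup containing a Sylow subgroup.
-/

set_option autoImplicit false
set_option linter.style.haveILetI false
set_option linter.deprecated false
set_option linter.unusedSectionVars false

namespace CfsgLib.Tate

open Subgroup CfsgLib.Solvable

variable {G : Type*} [Group G] [Finite G] {p : ℕ} [hp : Fact p.Prime]

/-- The image of a Sylow subgroup modulo `O^p` is everything. -/
theorem map_sylow_eq_top (P : Sylow p G) :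
    ((QuotientGroup.mk' (Cfsg.pResidual p G)).comp (P : Subgroup G).subtype).range = ⊤ := by
  rw [MonoidHom.range_comp, Subgroup.range_subtype]
  obtain ⟨k, hk⟩ := IsPGroup.iff_card.1
    (CfsgLib.PResidual.isPGroup_quotient_pResidual (p := p) (G := G))
  refine index_eq_one.1 (Nat.eq_one_of_dvd_coprimes
    (((hp.out.coprime_iff_not_dvd.2 P.not_dvd_index).symm).pow_right k)
    (index_map_dvd _ (QuotientGroup.mk'_surjective _)) (hk ▸ index_dvd_card _))

/-- If `P ∩ O^p(G)` lies in the derived group of `V ≥ P`, it lies in `O^p(V)`. -/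
theorem inf_pResidual_le (P : Sylow p G) (V : Subgroup G) (hPV : (P : Subgroup G) ≤ V)
    (h : (P : Subgroup G) ⊓ Cfsg.pResidual p G ≤ ⁅V, V⁆) :
    (P : Subgroup G) ⊓ Cfsg.pResidual p G ≤ (Cfsg.pResidual p V).map V.subtype := by
  set K := Cfsg.pResidual p G with hK
  set R : Subgroup (P : Subgroup G) := K.subgroupOf P with hR
  let ι : (P : Subgroup G) →* V := inclusion hPV
  set Q : Subgroup (P : Subgroup G) := (Cfsg.pResidual p V).comap ι with hQ
  suffices hle : R ≤ Q by
    rintro x ⟨hxP, hxK⟩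
    exact ⟨ι ⟨x, hxP⟩, hle (show (⟨x, hxP⟩ : (P : Subgroup G)) ∈ R from hxK), rfl⟩
  by_contra hne
  have hQR : Q ≤ R := fun x hx => by
    have h1 := CfsgLib.PResidual.map_pResidual_le V.subtype (mem_map_of_mem V.subtype hx)
    exact h1
  obtain ⟨R0, ⟨hR0n, hQR0, hR0lt⟩, hR0max⟩ :=
    Set.Finite.exists_maximal (s := {N : Subgroup (P : Subgroup G) | N.Normal ∧ Q ≤ N ∧ N < R})
      (Set.toFinite _) ⟨Q, Normal.comap inferInstance ι, le_rfl,
        lt_of_le_of_ne hQR fun e => hne e.ge⟩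
  haveI := hR0n
  set q := QuotientGroup.mk' R0
  have hle : R0 ≤ ((QuotientGroup.mk' K).comp (P : Subgroup G).subtype).ker := by
    intro x hx
    simpa [MonoidHom.mem_ker, hR, mem_subgroupOf] using (hR0lt.le hx : x ∈ R)
  let φ : (P : Subgroup G) ⧸ R0 →* G ⧸ K := QuotientGroup.lift R0 _ hle
  have hφq : ∀ x : (P : Subgroup G), φ (q x) = QuotientGroup.mk' K (x : G) := fun x => rfl
  have hsurj : Function.Surjective φ := by
    intro y
    obtain ⟨x, hx⟩ := (map_sylow_eq_top P).ge (mem_top y)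
    exact ⟨q x, hx⟩
  have hkerm : ∀ x, q x ∈ φ.ker ↔ x ∈ R := by
    intro x
    rw [MonoidHom.mem_ker, hφq, QuotientGroup.mk'_apply, QuotientGroup.eq_one_iff]
    rfl
  have hEp : IsPGroup p ((P : Subgroup G) ⧸ R0) := P.2.to_quotient R0
  have hkne : φ.ker ≠ ⊥ := by
    intro e
    refine hR0lt.not_ge fun x hx => ?_
    rw [← QuotientGroup.eq_one_iff]
    exact mem_bot.1 (e ▸ (hkerm x).2 hx)
  have hmin : ∀ N : Subgroup ((P : Subgroup G) ⧸ R0), N.Normal → N ≤ φ.ker → N = ⊥ ∨ N = φ.ker := by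
    intro N hN hNle
    by_cases hNe : N = φ.ker
    · exact Or.inr hNe
    left
    have hlt : N.comap q < R := by
      refine lt_of_le_of_ne (fun x hx => (hkerm x).1 (hNle hx)) fun e => hNe (le_antisymm hNle ?_)
      intro y hy
      obtain ⟨x, rfl⟩ := QuotientGroup.mk'_surjective R0 y
      exact e.ge ((hkerm x).1 hy)
    have hge : R0 ≤ N.comap q := fun x hx => by
      rw [mem_comap, show q x = 1 from (QuotientGroup.eq_one_iff x).2 hx]
      exact one_mem N
    have := hR0max (y := N.comap q) ⟨hN.comap q, hQR0.trans hge, hlt⟩ hge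
    rw [eq_bot_iff]
    intro y hy
    obtain ⟨x, rfl⟩ := QuotientGroup.mk'_surjective R0 y
    exact mem_bot.2 ((QuotientGroup.eq_one_iff x).2 (this hy))
  haveI := hEp.isNilpotent
  obtain ⟨z, hzk, hz⟩ := ((φ.ker ⊓ center _).bot_or_exists_ne_one).resolve_left
    (CfsgLib.PGroupBasic.inf_center_ne_bot φ.ker hkne)
  obtain ⟨k, hk⟩ := IsPGroup.iff_orderOf.1 hEp z
  have hk0 : k ≠ 0 := by
    rintro rfl
    exact hz (orderOf_eq_one_iff.1 (by simpa using hk))
  set z' := z ^ (orderOf z / p)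
  have hz'mem : z' ∈ φ.ker ⊓ center _ := pow_mem hzk _
  have hz'ord : orderOf z' = p :=
    orderOf_pow_orderOf_div (by rw [hk]; exact pow_ne_zero k hp.out.ne_zero)
      (hk ▸ dvd_pow_self p hk0)
  have hzn : (zpowers z').Normal := ⟨fun y hy g => by
    have : y ∈ center _ := (zpowers_le.2 hz'mem.2) hy
    rwa [mem_center_iff.1 this g, mul_inv_cancel_right]⟩
  have hkz : φ.ker = zpowers z' := by
    rcases hmin _ hzn (zpowers_le.2 hz'mem.1) with e | e
    · rw [zpowers_eq_bot] at e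
      rw [e, orderOf_one] at hz'ord
      exact absurd hz'ord.symm hp.out.ne_one
    · exact e.symm
  have hcen : φ.ker ≤ center _ := hkz ▸ zpowers_le.2 hz'mem.2
  have hexp : ∀ w ∈ φ.ker, w ^ p = 1 := by
    intro w hw
    rw [hkz] at hw
    have hd := orderOf_dvd_of_mem_zpowers hw
    rw [hz'ord] at hd
    exact orderOf_dvd_iff_pow_eq_one.1 hd
  -- the homomorphism from `V`
  let f : (P : Subgroup G) →* V ⧸ Cfsg.pResidual p V := (QuotientGroup.mk' _).comp ι
  have hfsurj : Function.Surjective f := by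
    intro y
    obtain ⟨⟨⟨x, hxV⟩, hx⟩, hxy⟩ := (map_sylow_eq_top (P.subtype hPV)).ge (mem_top y)
    exact ⟨⟨x, hx⟩, hxy⟩
  have hfker : f.ker ≤ q.ker := by
    intro x hx
    rw [MonoidHom.mem_ker] at hx
    rw [QuotientGroup.ker_mk']
    exact hQR0 ((QuotientGroup.eq_one_iff (ι x)).1 hx)
  let qV : V →* (P : Subgroup G) ⧸ R0 :=
    (f.liftOfSurjective hfsurj ⟨q, hfker⟩).comp (QuotientGroup.mk' _)
  have hqV : ∀ x : (P : Subgroup G), qV (ι x) = q x :=
    fun x => f.liftOfRightInverse_comp_apply _ (Function.rightInverse_surjInv hfsurj) ⟨q, hfker⟩ x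
  have hqVπ : ∀ v : V, φ (qV v) = QuotientGroup.mk' K (v : G) := by
    intro v
    obtain ⟨x, hx⟩ := hfsurj (QuotientGroup.mk' _ v)
    have h1 : qV v = q x := by
      rw [← hqV x]
      exact congrArg (f.liftOfSurjective hfsurj ⟨q, hfker⟩) hx.symm
    rw [h1, hφq]
    have h2 : (ι x)⁻¹ * v ∈ Cfsg.pResidual p V := QuotientGroup.eq.1 hx
    have h3 := CfsgLib.PResidual.map_pResidual_le V.subtype (mem_map_of_mem V.subtype h2)
    exact QuotientGroup.eq.2 h3
  have hVidx : ¬ p ∣ V.index := fun hd => P.not_dvd_index (hd.trans (index_dvd_of_le hPV))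
  obtain ⟨σ, hσ⟩ := CfsgLib.LocalB.Tate.exists_lift φ (QuotientGroup.mk' K) hsurj hcen hexp V hVidx
    qV hqVπ
  let α : V →* φ.ker :=
    MonoidHom.mk' (fun x => ⟨(qV x)⁻¹ * σ x, by simp [MonoidHom.mem_ker, hσ, hqVπ]⟩) fun x y => by
      refine Subtype.ext ?_
      have hc : (qV x)⁻¹ * σ x ∈ center _ :=
        hcen (by simp [MonoidHom.mem_ker, hσ, hqVπ])
      simp only [map_mul, Subgroup.coe_mul, mul_inv_rev]
      calc (qV y)⁻¹ * (qV x)⁻¹ * (σ x * σ y) = (qV y)⁻¹ * ((qV x)⁻¹ * σ x) * σ y := by group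
        _ = (qV x)⁻¹ * σ x * ((qV y)⁻¹ * σ y) := by
          rw [mem_center_iff.1 hc (qV y)⁻¹, mul_assoc]
  haveI : IsMulCommutative φ.ker :=
    ⟨⟨fun a b => Subtype.ext (mem_center_iff.1 (hcen b.2) a)⟩⟩
  have hα : commutator V ≤ α.ker := by
    rw [_root_.commutator_def, Subgroup.commutator_le]
    intro a _ b _
    rw [MonoidHom.mem_ker, map_commutatorElement, commutatorElement_eq_one_iff_commute]
    exact IsMulCommutative.is_comm.comm _ _
  have hK1 : K ≤ σ.ker := by
    rw [hK, Cfsg.pResidual, closure_le]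
    intro g hg
    have h1 : σ g ∈ φ.ker := by
      rw [MonoidHom.mem_ker, hσ, QuotientGroup.mk'_apply, QuotientGroup.eq_one_iff]
      exact CfsgLib.PResidual.mem_pResidual p hg
    have hd : orderOf (σ g) ∣ p := orderOf_dvd_iff_pow_eq_one.2 (hexp _ h1)
    rw [SetLike.mem_coe, MonoidHom.mem_ker, ← orderOf_eq_one_iff]
    exact Nat.eq_one_of_dvd_coprimes hg (orderOf_map_dvd σ g) hd
  refine hR0lt.not_ge fun x hx => ?_
  obtain ⟨v, hv, hvx⟩ : (x : G) ∈ (commutator V).map V.subtype := by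
    rw [map_subtype_commutator]; exact h ⟨x.2, hx⟩
  have hvι : v = ι x := Subtype.ext hvx
  have h1 := congrArg Subtype.val (MonoidHom.mem_ker.1 (hα hv))
  have h2 : σ (x : G) = 1 := MonoidHom.mem_ker.1 (hK1 hx)
  simp only [α, MonoidHom.mk'_apply, OneMemClass.coe_one] at h1
  rw [hvι, hqV, show ((ι x : V) : G) = (x : G) from rfl, h2, mul_one, inv_eq_one] at h1
  exact (QuotientGroup.eq_one_iff x).1 h1

end CfsgLib.Tate
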