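import Cfsg.Agent.Transfer.WielandtYoshida

/-!
Consequences: the iterated commutator outside `Φ(W₀)`, and the wreath product image.
-/

set_option autoImplicit false
set_option linter.unusedSectionVars false
set_option linter.style.haveILetI false

namespace CfsgLib.WY

open Subgroup

universe u

variable {G : Type u} [Group G] [Finite G] {p : ℕ} [hp : Fact p.Prime]

theorem cp_pow (a : Multiplicative (ZMod p)) : a ^ p = 1 := by
  have h1 := pow_card_eq_one' (x := a)
  rwa [show Nat.card (Multiplicative (ZMod p)) = p by simp] at h1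

theorem isCoatom_of_index_prime {H : Type*} [Group H] [Finite H] {K : Subgroup H} {q : ℕ}
    (hq : q.Prime) (hK : K.index = q) : IsCoatom K := by
  refine ⟨fun h => hq.ne_one (hK ▸ index_eq_one.2 h), fun L hL => ?_⟩
  have h1 := relIndex_mul_index hL.le
  rw [hK] at h1
  rcases hq.eq_one_or_self_of_dvd _ (Dvd.intro_left _ h1) with h2 | h2
  · exact index_eq_one.1 h2
  · rw [h2, mul_eq_right₀ hq.ne_zero] at h1
    exact absurd (relIndex_eq_one.1 h1) hL.not_ge

/-- The Frattini subgroup dies in a character of exponent `p`. -/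
theorem frattini_le_ker {H : Type*} [Group H] [Finite H] (f : H →* Multiplicative (ZMod p)) :
    frattini H ≤ f.ker := by
  by_cases h : f.ker = ⊤
  · rw [h]; exact le_top
  refine frattini_le_coatom (isCoatom_of_index_prime hp.out ?_)
  have h1 : f.ker.index ∣ p := by
    rw [index_ker]
    have := card_subgroup_dvd_card f.range
    rwa [show Nat.card (Multiplicative (ZMod p)) = p by simp] at this
  exact (hp.out.eq_one_or_self_of_dvd _ h1).resolve_left fun h2 => h (index_eq_one.1 h2)

/-- **Wielandt–Yoshida**: an iterated commutator outside the Frattini subgroup of a maximal subgroup. -/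
theorem exists_commutator (S : Sylow p G) (W : Subgroup G)
    (hW : Cfsg.IsWeaklyClosed W (S : Subgroup G))
    (h : (S : Subgroup G) ⊓ commutator G ≠
      (S : Subgroup G) ⊓ ⁅normalizer (W : Set G), normalizer (W : Set G)⁆) :
    ∃ x ∈ (S : Subgroup G), ∃ z ∈ W, ∃ W₀ : Subgroup ↥W, IsCoatom W₀ ∧
      (fun y : G => y⁻¹ * z⁻¹ * y * z)^[p - 1] x ∈ W₀.map W.subtype ∧
      (fun y : G => y⁻¹ * z⁻¹ * y * z)^[p - 1] x ∉ ((frattini ↥W₀).map W₀.subtype).map W.subtype := by
  obtain ⟨P, hWP, hPS, M, hMn, x, z, f, -, hMi, hzW, hzM, hne⟩ := exists_data S W hW h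
  haveI := hMn
  set σ := ((MulAut.conjNormal z⁻¹).toMonoidHom : M →* M) with hσ
  set F := fun y : G => y⁻¹ * (z : G)⁻¹ * y * (z : G) with hF
  have hit : ∀ k, F^[k] ((x : P) : G) = ((((del σ)^[k] x : M) : P) : G) := by
    intro k
    induction k with
    | zero => rfl
    | succ k ih =>
      rw [Function.iterate_succ_apply', Function.iterate_succ_apply', ih]
      generalize (del σ)^[k] x = y
      simp [hF, del, hσ, mul_assoc]
  have hWn : ∀ s ∈ (S : Subgroup G), ∀ w ∈ W, s * w * s⁻¹ ∈ W := by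
    intro s hs w hw
    refine (hW.2 s ?_).le ⟨w, hw, rfl⟩
    rintro _ ⟨y, hy, rfl⟩
    exact mul_mem (mul_mem hs (hW.1 hy)) (inv_mem hs)
  have hmemW : F^[p - 1] ((x : P) : G) ∈ W := by
    obtain ⟨k, hk⟩ := Nat.exists_eq_add_of_le hp.out.two_le
    rw [show p - 1 = k + 1 by omega, Function.iterate_succ_apply', hit k]
    generalize ((((del σ)^[k] x : M) : P)) = y
    have h1 := hWn _ (inv_mem (hPS y.2)) _ (inv_mem hzW)
    rw [inv_inv] at h1
    exact mul_mem h1 hzW
  set W₀ : Subgroup ↥W := (M.map P.subtype).subgroupOf W with hW₀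
  have hidx : W₀.index = p := by
    have h1 : (M.map P.subtype).relIndex W = M.relIndex (W.subgroupOf P) := by
      conv_lhs => rw [← map_subgroupOf_eq_of_le hWP]
      exact relIndex_map_map_of_injective _ _ P.subtype_injective
    show (M.map P.subtype).relIndex W = p
    rw [h1]
    refine ((hp.out.eq_one_or_self_of_dvd _ (hMi ▸ relIndex_dvd_index_of_normal M _)).resolve_left
      fun h2 => hzM (relIndex_eq_one.1 h2 (mem_subgroupOf.2 hzW)))
  refine ⟨(x : P), hPS (x : P).2, z, hzW, W₀, isCoatom_of_index_prime hp.out hidx,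
    ⟨⟨_, hmemW⟩, ⟨_, ((del σ)^[p - 1] x).2, (hit _).symm⟩, rfl⟩, ?_⟩
  rintro ⟨w, ⟨v, hv, rfl⟩, hvw⟩
  have hin : ∀ u : W₀, (⟨((u : W) : G), hWP (u : W).2⟩ : P) ∈ M := fun u => by
    obtain ⟨m, hm, he⟩ := u.2
    have he' : m = (⟨((u : W) : G), hWP (u : W).2⟩ : P) := Subtype.ext he
    exact he' ▸ hm
  let g : W₀ →* Multiplicative (ZMod p) := f.comp
    (MonoidHom.mk' (fun u => (⟨⟨((u : W) : G), hWP (u : W).2⟩, hin u⟩ : M)) fun _ _ => rfl)
  have h2 : g v = 1 := frattini_le_ker g hv
  refine hne (Eq.trans (congrArg f ?_) h2)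
  exact Subtype.ext (Subtype.ext ((hit _).symm.trans hvw.symm))

/-- **Yoshida**: without normalizer control of transfer the Sylow subgroup maps onto `Z_p ≀ Z_p`. -/
theorem exists_wreath (S : Sylow p G)
    (h : (S : Subgroup G) ⊓ commutator G ≠ (S : Subgroup G) ⊓
      ⁅normalizer ((S : Subgroup G) : Set G), normalizer ((S : Subgroup G) : Set G)⁆) :
    ∃ (Q : Sylow p (Equiv.Perm (Fin (p ^ 2))))
      (ψ : ↥(S : Subgroup G) →* ↥(Q : Subgroup (Equiv.Perm (Fin (p ^ 2))))), Function.Surjective ψ := by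
  have hW : Cfsg.IsWeaklyClosed (S : Subgroup G) (S : Subgroup G) :=
    ⟨le_rfl, fun g hg => eq_of_le_of_card_ge hg
      (le_of_eq (card_map_of_injective (MulAut.conj g).injective).symm)⟩
  obtain ⟨P, hSP, hPS, M, hMn, x, z, f, -, hMi, -, hzM, hne⟩ := exists_data S _ hW h
  haveI := hMn
  have hPp : IsPGroup p P := S.2.to_le hPS
  set σ := ((MulAut.conjNormal z⁻¹).toMonoidHom : M →* M) with hσ
  have hσi : ∀ (i : ℕ) (m : M), ((σ^[i] m : M) : P) = (z ^ i)⁻¹ * (m : P) * z ^ i := by
    intro i m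
    induction i with
    | zero => simp
    | succ i ih =>
      rw [Function.iterate_succ_apply']
      generalize σ^[i] m = y at ih ⊢
      rw [hσ, MulEquiv.coe_toMonoidHom, MulAut.conjNormal_apply, ih, inv_inv, pow_succ]
      group
  have hzp : z ^ p ∈ M := hMi ▸ M.pow_index_mem z
  have hper : ∀ y, ∀ i, seq σ f y (i + p) = seq σ f y i := by
    intro y i
    show Additive.ofMul (f (σ^[i + p] y)) = Additive.ofMul (f (σ^[i] y))
    rw [show i + p = p + i by omega, Function.iterate_add_apply]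
    congr 1
    generalize σ^[i] y = w
    have h1 : σ^[p] w = (⟨z ^ p, hzp⟩ : M)⁻¹ * w * ⟨z ^ p, hzp⟩ := Subtype.ext (by rw [hσi]; rfl)
    rw [h1, map_mul, map_mul, map_inv, mul_comm (f (⟨z ^ p, hzp⟩ : M))⁻¹, inv_mul_cancel_right]
  have hlev := pow_le_index σ f cp_pow (hPp.to_subgroup M) hper hne
  have hkerp : f.ker.index = p := by
    have h1 : f.ker.index ∣ p := by
      rw [index_ker]
      have := card_subgroup_dvd_card f.range
      rwa [show Nat.card (Multiplicative (ZMod p)) = p by simp] at this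
    refine (hp.out.eq_one_or_self_of_dvd _ h1).resolve_left fun h2 => hne ?_
    exact MonoidHom.mem_ker.1 ((index_eq_one.1 h2).ge (mem_top _))
  set L := f.ker.map M.subtype with hL
  have hLidx : Nat.card (P ⧸ L) = p ^ 2 := by
    rw [← index_eq_card, hL, index_map_subtype, hkerp, hMi, sq]
  obtain ⟨e⟩ : Nonempty ((P ⧸ L) ≃ Fin (p ^ 2)) :=
    ⟨(Finite.equivFin _).trans (finCongr hLidx)⟩
  set ρ : P →* Equiv.Perm (Fin (p ^ 2)) :=
    e.permCongrHom.toMonoidHom.comp (MulAction.toPermHom P (P ⧸ L)) with hρ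
  have hker : ρ.ker ≤ (level σ f cp_pow 0).map M.subtype := by
    intro g hg
    have h1 : g ∈ L.normalCore := by
      rw [normalCore_eq_ker]
      refine MonoidHom.mem_ker.2 (e.permCongrHom.injective ?_)
      rw [map_one]
      exact hg
    obtain ⟨m, hm, rfl⟩ := normalCore_le L h1
    refine ⟨m, funext fun i => ?_, rfl⟩
    show Additive.ofMul (f (σ^[i] m)) = 0
    have h2 := h1 ((z ^ i)⁻¹)
    rw [inv_inv] at h2
    obtain ⟨m', hm', he⟩ := h2
    have h3 : σ^[i] m = m' := Subtype.ext ((hσi i m).trans he.symm)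
    rw [h3, show f m' = 1 from hm']
    rfl
  have hbig : p ^ (p + 1) ≤ Nat.card ρ.range := by
    rw [← index_ker]
    refine le_trans ?_ (Nat.le_of_dvd (Nat.pos_of_ne_zero index_ne_zero_of_finite) (index_dvd_of_le hker))
    rw [index_map_subtype, hMi, pow_succ]
    exact Nat.mul_le_mul_right p hlev
  obtain ⟨Q, hQ⟩ := (hPp.of_surjective ρ.rangeRestrict ρ.rangeRestrict_surjective).exists_le_sylow
  have hQcard : Nat.card Q = p ^ (p + 1) := by
    rw [Q.card_eq_multiplicity, Nat.card_eq_fintype_card, Fintype.card_perm, Fintype.card_fin]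
    congr 1
    have h1 := Nat.factorization_factorial_mul (n := p) hp.out
    have h2 := Nat.factorization_factorial_mul (n := 1) hp.out
    rw [mul_one, Nat.factorial_one, Nat.factorization_one] at h2
    rw [sq, h1, h2]
    simp [add_comm]
  have heq : ρ.range = (Q : Subgroup (Equiv.Perm (Fin (p ^ 2)))) :=
    eq_of_le_of_card_ge hQ (hQcard ▸ hbig)
  have hPeq : (S : Subgroup G) = P := le_antisymm hSP hPS
  refine ⟨Q, (ρ.codRestrict _ fun g => heq.le ⟨g, rfl⟩).comp
    (MulEquiv.subgroupCongr hPeq).toMonoidHom, ?_⟩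
  rintro ⟨a, ha⟩
  obtain ⟨g, hg⟩ := heq.ge ha
  obtain ⟨s, hs⟩ := (MulEquiv.subgroupCongr hPeq).surjective g
  exact ⟨s, Subtype.ext (by
    show ρ (MulEquiv.subgroupCongr hPeq s) = a
    rw [hs, hg])⟩

end CfsgLib.WY
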