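import Mathlib.GroupTheory.Focal
import Mathlib.GroupTheory.SchurZassenhaus
import Cfsg.Agent.FGSA.Nilpotent
import Cfsg.Agent.Transfer.Basic

/-!
The focal subgroup theorem for subgroups of coprime index and the automorphisms of prime power
order of small groups.
-/

set_option autoImplicit false
set_option linter.unusedSectionVars false
set_option linter.style.haveILetI false
set_option linter.deprecated false

namespace CfsgLib.HallFocal

open Subgroup

universe u

variable {G : Type u} [Group G] [Finite G]

theorem card_quotient_focal_dvd (H : Subgroup G) :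
    Nat.card (H ⧸ H.focalSubgroupOf) ∣ ⁅H, H⁆.relIndex H := by
  rw [← index_eq_card, focalSubgroupOf_def]
  exact relIndex_dvd_of_le_left H (commutator_le_focalSubgroup H)

open scoped IsMulCommutative in
/-- The focal subgroup theorem when the index is prime to the order of `H / foc(H)`. -/
theorem supplement_of_coprime (H : Subgroup G)
    (h : H.index.Coprime (Nat.card (H ⧸ H.focalSubgroupOf))) :
    H.focalSubgroup = commutator G ⊓ H ∧
      ∃ N : Subgroup G, N.Normal ∧ N ⊓ H = H.focalSubgroup ∧ N ⊔ H = ⊤ := by
  set N := H.transferFocal.ker with hN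
  have hinj : Function.Injective fun y : H ⧸ H.focalSubgroupOf => y ^ H.index :=
    (powCoprime h.symm).injective
  have hinf : N ⊓ H = H.focalSubgroup := by
    refine le_antisymm ?_ (le_inf ?_ H.focalSubgroup_le)
    · rintro x ⟨hxN, hxH⟩
      have h1 := H.transferFocal_eq_pow ⟨x, hxH⟩
      rw [MonoidHom.mem_ker.1 hxN] at h1
      have h2 : ((⟨x, hxH⟩ : H) : H ⧸ H.focalSubgroupOf) = 1 := hinj (by simp [← h1])
      rwa [QuotientGroup.eq_one_iff, focalSubgroupOf_def, mem_subgroupOf] at h2
    · exact H.focalSubgroup_le_commutator.trans (Abelianization.commutator_subset_ker _)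
  refine ⟨le_antisymm (le_inf H.focalSubgroup_le_commutator H.focalSubgroup_le)
    ((inf_le_inf_right _ (Abelianization.commutator_subset_ker _)).trans hinf.le),
    N, inferInstance, hinf, eq_top_iff.2 fun g _ => ?_⟩
  obtain ⟨y, hy⟩ := (powCoprime h.symm).surjective (H.transferFocal g)
  obtain ⟨x, rfl⟩ := QuotientGroup.mk_surjective y
  have hgx : g * (x : G)⁻¹ ∈ N := by
    rw [hN, MonoidHom.mem_ker, map_mul, map_inv, transferFocal_eq_pow, ← hy]
    simp [powCoprime]
  have : g = g * (x : G)⁻¹ * (x : G) := by group
  rw [this]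
  exact mul_mem_sup hgx x.2

theorem focalSubgroup_mono {H K : Subgroup G} (h : H ≤ K) : H.focalSubgroup ≤ K.focalSubgroup := by
  rw [focalSubgroup_def, focalSubgroup_def]
  exact closure_mono fun z ⟨hz, x, hx, u, he⟩ => ⟨h hz, x, h hx, u, he⟩

theorem map_focalSubgroup_le {G' : Type*} [Group G'] (f : G →* G') (H : Subgroup G) :
    H.focalSubgroup.map f ≤ (H.map f).focalSubgroup := by
  rw [focalSubgroup_def, MonoidHom.map_closure, focalSubgroup_def]
  refine closure_mono ?_
  rintro _ ⟨z, ⟨hz, x, hx, u, rfl⟩, rfl⟩
  exact ⟨mem_map_of_mem f hz, f x, mem_map_of_mem f hx, f u, map_commutatorElement f x u⟩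

/-- A normal Hall subgroup of a normal subgroup is normal. -/
theorem normal_map_of_coprime {N : Subgroup G} [hN : N.Normal] (M : Subgroup N) [M.Normal]
    (h : (Nat.card M).Coprime M.index) : (M.map N.subtype).Normal := by
  constructor
  rintro _ ⟨x, hx, rfl⟩ g
  refine ⟨⟨g * x * g⁻¹, hN.conj_mem x x.2 g⟩, ?_, rfl⟩
  rw [SetLike.mem_coe, ← QuotientGroup.eq_one_iff (N := M), ← orderOf_eq_one_iff]
  refine Nat.eq_one_of_dvd_coprimes h ?_ ?_
  · refine (orderOf_map_dvd (QuotientGroup.mk' M) _).trans ?_
    rw [← Subgroup.orderOf_coe (H := N)]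
    have e : orderOf (g * (x : G) * g⁻¹) = orderOf (x : G) := by
      rw [← MulAut.conj_apply, ← MulEquiv.coe_toMonoidHom,
        orderOf_injective _ (MulEquiv.injective _)]
    exact e ▸ (Subgroup.orderOf_coe (H := N) x).symm ▸ Subgroup.orderOf_dvd_natCard M hx
  · rw [index_eq_card]; exact orderOf_dvd_natCard _

/-- A Hall subgroup whose iterated focal series reaches the trivial group has a normal
complement. -/
theorem complement_of_iterate : ∀ (n : ℕ) (G : Type u) [Group G] [Finite G] (H : Subgroup G),
    (Nat.card H).Coprime H.index → (fun K : Subgroup G => K.focalSubgroup)^[n] H = ⊥ →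
    ∃ N : Subgroup G, N.Normal ∧ IsComplement' N H := by
  intro n
  induction n with
  | zero =>
    intro G _ _ H _ hfoc
    simp only [Function.iterate_zero, id_eq] at hfoc
    subst hfoc
    exact ⟨⊤, inferInstance, isComplement'_top_left.2 rfl⟩
  | succ n ih =>
    intro G _ _ H hHall hfoc
    rw [Function.iterate_succ_apply] at hfoc
    obtain ⟨-, N, hN, hinf, hsup⟩ := supplement_of_coprime H
      (hHall.symm.coprime_dvd_right (by
        rw [← index_eq_card]; exact index_dvd_card _))
    set K := H.focalSubgroup with hK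
    have hcard : Nat.card N * Nat.card H = Nat.card G * Nat.card K := by
      have h1 := CfsgLib.Solvable.card_sup_mul_card_inf (A := H) (K := N) le_normalizer_of_normal
      rw [sup_comm, hsup, card_top, inf_comm, hinf] at h1
      rw [h1, mul_comm]
    have hKN : K ≤ N := hinf ▸ inf_le_left
    have hKc : Nat.card (K.subgroupOf N) = Nat.card K :=
      Nat.card_congr (subgroupOfEquivOfLe hKN).toEquiv
    have hidx : (K.subgroupOf N).index = H.index := by
      have h2 := card_mul_index (K.subgroupOf N)
      rw [hKc] at h2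
      apply Nat.eq_of_mul_eq_mul_left (Nat.card_pos (α := K))
      apply Nat.eq_of_mul_eq_mul_right (Nat.card_pos (α := H))
      rw [h2, hcard, ← card_mul_index H]
      ring
    have hHall' : (Nat.card (K.subgroupOf N)).Coprime (K.subgroupOf N).index := by
      rw [hKc, hidx]
      exact hHall.coprime_dvd_left (card_dvd_of_le H.focalSubgroup_le)
    have hit : ∀ j, ((fun L : Subgroup N => L.focalSubgroup)^[j] (K.subgroupOf N)).map N.subtype ≤
        (fun L : Subgroup G => L.focalSubgroup)^[j] K := by
      intro j
      induction j with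
      | zero => exact (map_subgroupOf_eq_of_le hKN).le
      | succ j hj =>
        rw [Function.iterate_succ_apply', Function.iterate_succ_apply']
        exact (map_focalSubgroup_le N.subtype _).trans (focalSubgroup_mono hj)
    obtain ⟨M, hM, hMc⟩ := ih N (K.subgroupOf N) hHall' (by
      rw [← (map_eq_bot_iff_of_injective _ N.subtype_injective), eq_bot_iff, ← hfoc]
      exact hit n)
    have hMcard : Nat.card M = H.index := by rw [← hMc.index_eq_card]; exact hidx
    have hMn : (M.map N.subtype).Normal := normal_map_of_coprime M (by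
      rw [hMcard, hMc.symm.index_eq_card, hKc]
      exact (hHall.coprime_dvd_left (card_dvd_of_le H.focalSubgroup_le)).symm)
    refine ⟨_, hMn, isComplement'_of_coprime ?_ ?_⟩
    · rw [card_map_of_injective N.subtype_injective, hMcard, mul_comm, card_mul_index]
    · rw [card_map_of_injective N.subtype_injective, hMcard]
      exact hHall.symm

/-- An element of order a power of `r` normalizing `T` centralizes it as soon as no proper divisor
of `|T|` is congruent to `|T|` modulo `r`. -/
theorem mem_centralizer_of_congr (T : Subgroup G) {r : ℕ} [Fact r.Prime] {a : G}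
    (ha : a ∈ normalizer (T : Set G)) {k : ℕ} (hk : orderOf a = r ^ k)
    (h : ∀ d, d ∣ Nat.card T → Nat.card T ≡ d [MOD r] → d = Nat.card T) :
    a ∈ centralizer (T : Set G) := by
  let A := zpowers (⟨a, ha⟩ : normalizer (T : Set G))
  let φ : A →* MulAut T := T.normalizerMonoidHom.comp A.subtype
  letI : MulAction A T := MulAction.compHom T φ
  have hA : IsPGroup r A := IsPGroup.of_card (n := k) (by
    rw [Nat.card_zpowers, ← hk]; exact (Subgroup.orderOf_coe _).symm)
  have hmod := hA.card_modEq_card_fixedPoints T
  set F : Subgroup T := (centralizer ({a} : Set G)).subgroupOf T with hF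
  have hfix : ∀ t : T, t ∈ MulAction.fixedPoints A T ↔ t ∈ F := by
    intro t
    rw [hF, mem_subgroupOf, mem_centralizer_singleton_iff]
    constructor
    · intro h
      have h1 := congrArg Subtype.val (h ⟨⟨a, ha⟩, mem_zpowers _⟩)
      change a * (t : G) * a⁻¹ = (t : G) at h1
      exact (mul_inv_eq_iff_eq_mul.1 h1).symm
    · intro h x
      obtain ⟨⟨x, hxN⟩, hx⟩ := x
      obtain ⟨m, hm⟩ := mem_zpowers_iff.1 hx
      have hm' : a ^ m = x := by simpa using congrArg Subtype.val hm
      apply Subtype.ext
      change x * (t : G) * x⁻¹ = (t : G)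
      rw [← hm']
      have hc : Commute a (t : G) := h.symm
      rw [(hc.zpow_left m).eq]; group
  have hcard : Nat.card (MulAction.fixedPoints A T) = Nat.card F :=
    Nat.card_congr (Equiv.subtypeEquivRight hfix)
  rw [hcard] at hmod
  have htop : F = ⊤ := eq_top_of_card_eq _ (h _ (card_subgroup_dvd_card F) hmod)
  refine mem_centralizer_iff.2 fun t ht => ?_
  have : (⟨t, ht⟩ : T) ∈ F := htop ▸ mem_top _
  exact mem_centralizer_singleton_iff.1 this

/-- Burnside's normal complement criterion via prime power elements. -/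
theorem hasNormalPComplement_of_congr {p : ℕ} [hp : Fact p.Prime] (P : Sylow p G)
    (hP : IsMulCommutative P)
    (h : ∀ r : ℕ, r.Prime → r ≠ p → r ∣ Nat.card G → ∀ d, d ∣ Nat.card P →
      Nat.card P ≡ d [MOD r] → d = Nat.card P) :
    Cfsg.HasNormalPComplement p G := by
  refine CfsgLib.TransferBasic.hasNormalPComplement_of_abelian hP fun g hg hcop => ?_
  refine (CfsgLib.FGSA.le_of_prime_power_mem (A := zpowers g)
    (M := centralizer ((P : Subgroup G) : Set G)) ?_) (mem_zpowers g)
  rintro r hr a ha ⟨k, hk⟩
  have : Fact r.Prime := ⟨hr⟩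
  rcases Nat.eq_zero_or_pos k with rfl | hk0
  · rw [pow_zero, orderOf_eq_one_iff] at hk
    rw [hk]; exact one_mem _
  have hrg : r ∣ orderOf g :=
    (dvd_pow_self r hk0.ne').trans (hk ▸ orderOf_dvd_of_mem_zpowers ha)
  exact mem_centralizer_of_congr _ (zpowers_le.2 hg ha) hk
    (h r hr (fun e => Nat.not_coprime_of_dvd_of_dvd hp.out.one_lt (e ▸ hrg) dvd_rfl hcop)
      (hrg.trans (orderOf_dvd_natCard g)))

end CfsgLib.HallFocal
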