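import Cfsg.Agent.Transfer.Frobenius
import Cfsg.Agent.Solvable.PGroupBasic
import Mathlib.Algebra.Group.ForwardDiff
import Mathlib.Algebra.BigOperators.Group.Finset.Basic
import Mathlib.Data.Nat.Choose.Factorization
import Mathlib.FieldTheory.Finite.Basic
import Mathlib.GroupTheory.SpecificGroups.Cyclic
import Mathlib.Data.Nat.Choose.Dvd

/-!
The Wielandt–Yoshida transfer theorem: a weakly closed subgroup whose normalizer does not control
transfer gives an iterated commutator of length `p - 1`.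
-/

set_option autoImplicit false
set_option linter.unusedSectionVars false
set_option linter.style.haveILetI false

namespace CfsgLib.WY

open Subgroup fwdDiff
open scoped IsMulCommutative

/-! ### Iterated commutators seen through a character -/

section Seq

variable {M A : Type*} [Group M] [CommGroup A] {p : ℕ} [Fact p.Prime] (σ : M →* M) (f : M →* A)

/-- The commutator with the operator `σ`. -/
def del (y : M) : M := y⁻¹ * σ y

/-- The values of a character along the powers of `σ`. -/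
def seq (y : M) : ℕ → Additive A := fun i => Additive.ofMul (f (σ^[i] y))

theorem seq_mul (y y' : M) : seq σ f (y * y') = seq σ f y + seq σ f y' :=
  funext fun i => by simp [seq, iterate_map_mul]

theorem seq_del (y : M) : seq σ f (del σ y) = Δ_[1] (seq σ f y) :=
  funext fun i => by
    simp only [seq, fwdDiff, del, iterate_map_mul, iterate_map_inv, map_mul, map_inv,
      Function.iterate_succ_apply]
    rw [ofMul_mul, ofMul_inv, sub_eq_add_neg, add_comm]

theorem seq_iter : ∀ (k : ℕ) (y : M), seq σ f ((del σ)^[k] y) = Δ_[1]^[k] (seq σ f y)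
  | 0, _ => rfl
  | k + 1, y => by
    rw [Function.iterate_succ_apply', Function.iterate_succ_apply', seq_del, seq_iter k y]

theorem choose_sign (k : ℕ) (hk : k ≤ p - 1) :
    (((-1 : ℤ) ^ (p - 1 - k) * ((p - 1).choose k : ℕ) : ℤ) : ZMod p) = 1 := by
  induction k with
  | zero =>
    simp only [Nat.sub_zero, Nat.choose_zero_right, Nat.cast_one, mul_one, Int.cast_pow,
      Int.cast_neg, Int.cast_one]
    exact ZMod.pow_card_sub_one_eq_one (neg_ne_zero.2 one_ne_zero)
  | succ k ih =>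
    have hp : p.Prime := Fact.out
    have h1 := ih (by omega)
    have h2 : (((p - 1).choose k : ℕ) : ZMod p) + ((p - 1).choose (k + 1) : ℕ) = 0 := by
      rw [← Nat.cast_add, ← Nat.choose_succ_succ', Nat.sub_add_cancel hp.one_le,
        ZMod.natCast_eq_zero_iff]
      exact Nat.Prime.dvd_choose_self hp (by omega) (by omega)
    rw [show p - 1 - k = (p - 1 - (k + 1)) + 1 by omega, pow_succ] at h1
    push_cast at h1 ⊢
    rw [eq_neg_of_add_eq_zero_right h2]
    linear_combination h1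

variable (hA : ∀ a : A, a ^ p = 1)
include hA

theorem diff_pred (a : ℕ → Additive A) (j : ℕ) :
    Δ_[1]^[p - 1] a j = ∑ k ∈ Finset.range p, a (j + k) := by
  have hp : p.Prime := Fact.out
  rw [fwdDiff_iter_eq_sum_shift, Nat.sub_add_cancel hp.one_le]
  refine Finset.sum_congr rfl fun k hk => ?_
  have h := choose_sign (p := p) k (by have := Finset.mem_range.1 hk; omega)
  obtain ⟨c, hc⟩ := (ZMod.intCast_eq_intCast_iff_dvd_sub _ 1 p).1 (h.trans Int.cast_one.symm)
  have e : ((-1 : ℤ) ^ (p - 1 - k) * ((p - 1).choose k : ℕ)) = 1 - (p : ℤ) * c := by omega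
  rw [e, sub_smul, one_smul, mul_comm, mul_smul, smul_eq_mul, mul_one]
  have h0 : ((p : ℤ) • a (j + k)) = 0 := by
    rw [natCast_zsmul]
    exact hA (a (j + k)).toMul
  rw [h0, smul_zero, sub_zero]

theorem ofMul_del_pow (y : M) :
    Additive.ofMul (f ((del σ)^[p - 1] y)) = ∑ k ∈ Finset.range p, seq σ f y k := by
  have h := congrFun (seq_iter σ f (p - 1) y) 0
  rw [diff_pred hA] at h
  simpa [seq] using h

theorem diff_p {y : M} (hper : ∀ i, seq σ f y (i + p) = seq σ f y i) :
    Δ_[1]^[p] (seq σ f y) = 0 := by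
  funext j
  have hp : p.Prime := Fact.out
  rw [show p = (p - 1) + 1 from (Nat.sub_add_cancel hp.one_le).symm, Function.iterate_succ_apply']
  simp only [fwdDiff, diff_pred hA, Pi.zero_apply]
  rw [sub_eq_zero]
  have e1 := Finset.sum_range_succ (fun k => seq σ f y (j + k)) p
  have e2 := Finset.sum_range_succ' (fun k => seq σ f y (j + k)) p
  rw [e1, hper, add_zero, add_left_inj] at e2
  rw [e2]
  exact Finset.sum_congr rfl fun k _ => by rw [show j + 1 + k = j + (k + 1) by ring]

theorem diff_add : ∀ (k : ℕ) (a b : ℕ → Additive A),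
    Δ_[1]^[k] (a + b) = Δ_[1]^[k] a + Δ_[1]^[k] b
  | 0, _, _ => rfl
  | k + 1, a, b => by
    simp only [Function.iterate_succ_apply', diff_add k a b, fwdDiff_add]

theorem diff_zero : ∀ k : ℕ, Δ_[1]^[k] (0 : ℕ → Additive A) = 0
  | 0 => rfl
  | k + 1 => by
    rw [Function.iterate_succ_apply', diff_zero k]
    funext j
    simp [fwdDiff]

/-- The elements on which the `k`-th difference vanishes. -/
def level (k : ℕ) : Subgroup M where
  carrier := {y | Δ_[1]^[k] (seq σ f y) = 0}
  one_mem' := by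
    show Δ_[1]^[k] (seq σ f 1) = 0
    rw [show seq σ f 1 = 0 from funext fun i => by simp [seq, iterate_map_one]]
    exact diff_zero hA k
  mul_mem' {a b} ha hb := by
    show Δ_[1]^[k] (seq σ f (a * b)) = 0
    rw [seq_mul, diff_add hA, show Δ_[1]^[k] (seq σ f a) = 0 from ha,
      show Δ_[1]^[k] (seq σ f b) = 0 from hb, add_zero]
  inv_mem' {a} ha := by
    show Δ_[1]^[k] (seq σ f a⁻¹) = 0
    have h := diff_add hA k (seq σ f a⁻¹) (seq σ f a)
    rw [← seq_mul, inv_mul_cancel, show seq σ f 1 = 0 from funext fun i => by simp [seq, iterate_map_one],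
      diff_zero hA k, show Δ_[1]^[k] (seq σ f a) = 0 from ha, add_zero] at h
    exact h.symm

/-- A nonvanishing `(p-1)`-st difference makes the shifts of the character independent. -/
theorem pow_le_index [Finite M] (hM : IsPGroup p M)
    (hper : ∀ y, ∀ i, seq σ f y (i + p) = seq σ f y i) {x : M}
    (hx : f ((del σ)^[p - 1] x) ≠ 1) : p ^ p ≤ (level σ f hA 0).index := by
  suffices h : ∀ k, k ≤ p → p ^ k * (level σ f hA k).index ≤ (level σ f hA 0).index from
    le_trans (Nat.le_mul_of_pos_right _ (Nat.pos_of_ne_zero index_ne_zero_of_finite)) (h p le_rfl)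
  intro k
  induction k with
  | zero => intro; rw [pow_zero, one_mul]
  | succ k ih =>
    intro hk
    refine le_trans ?_ (ih (by omega))
    have hle : level σ f hA k ≤ level σ f hA (k + 1) := fun y hy => by
      show Δ_[1]^[k + 1] (seq σ f y) = 0
      rw [Function.iterate_succ_apply', show Δ_[1]^[k] (seq σ f y) = 0 from hy]
      funext j
      simp [fwdDiff]
    have hne : (level σ f hA k).relIndex (level σ f hA (k + 1)) ≠ 1 := fun h => by
      have hmem : (del σ)^[p - 1 - k] x ∈ level σ f hA (k + 1) := by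
        show Δ_[1]^[k + 1] (seq σ f _) = 0
        rw [seq_iter, ← Function.iterate_add_apply, show k + 1 + (p - 1 - k) = p by omega]
        exact diff_p σ f hA (hper x)
      have h2 : Δ_[1]^[k] (seq σ f ((del σ)^[p - 1 - k] x)) = 0 := (relIndex_eq_one.1 h) hmem
      rw [seq_iter, ← Function.iterate_add_apply, show k + (p - 1 - k) = p - 1 by omega,
        ← seq_iter] at h2
      exact hx (by simpa [seq] using congrFun h2 0)
    obtain ⟨n, hn⟩ := hM.index (level σ f hA k)
    obtain ⟨m, -, hm⟩ := (Nat.dvd_prime_pow Fact.out).1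
      (hn ▸ relIndex_dvd_index_of_le (K := level σ f hA (k + 1)) hle)
    have hp : p ≤ (level σ f hA k).relIndex (level σ f hA (k + 1)) := by
      rw [hm] at hne ⊢
      exact Nat.le_self_pow (fun h0 => hne (by rw [h0, pow_zero])) p
    rw [← relIndex_mul_index hle, pow_succ, mul_assoc]
    exact Nat.mul_le_mul_left _ (Nat.mul_le_mul_right _ hp)

end Seq

/-! ### Partial transfer products -/

universe u

variable {G : Type u} [Group G] (N : Subgroup G) {A : Type*} [CommGroup A] (φ : N →* A)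

/-- The transversal cocycle. -/
noncomputable def coc (g : G) (q : G ⧸ N) : N :=
  ⟨(g • q).out⁻¹ * g * q.out, by
    rw [mul_assoc, ← QuotientGroup.eq, QuotientGroup.out_eq', ← smul_eq_mul, ← MulAction.Quotient.smul_mk,
      QuotientGroup.out_eq']⟩

theorem coc_mul (g h : G) (q : G ⧸ N) : coc N (g * h) q = coc N g (h • q) * coc N h q :=
  Subtype.ext (by simp only [coc, Subgroup.coe_mul, mul_smul]; group)

/-- The product of the cocycle over a finite set of cosets. -/
noncomputable def eta (Y : Finset (G ⧸ N)) (g : G) : A := ∏ q ∈ Y, φ (coc N g q)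

theorem eta_mul [DecidableEq (G ⧸ N)] (Y : Finset (G ⧸ N)) (g h : G) :
    eta N φ Y (g * h) = eta N φ (Y.image (h • ·)) g * eta N φ Y h := by
  simp only [eta, coc_mul, map_mul, Finset.prod_mul_distrib]
  rw [Finset.prod_image fun a _ b _ hab => smul_left_cancel h hab]

theorem image_smul_eq [DecidableEq (G ⧸ N)] {Y : Finset (G ⧸ N)} {h : G}
    (hY : ∀ q ∈ Y, h • q ∈ Y) : Y.image (h • ·) = Y := by
  refine Finset.eq_of_subset_of_card_le (Finset.image_subset_iff.2 hY) (le_of_eq ?_)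
  rw [Finset.card_image_of_injective _ (MulAction.injective h)]

theorem eta_mul_of_invariant [DecidableEq (G ⧸ N)] {Y : Finset (G ⧸ N)} (g : G) {h : G}
    (hY : ∀ q ∈ Y, h • q ∈ Y) : eta N φ Y (g * h) = eta N φ Y g * eta N φ Y h := by
  rw [eta_mul, image_smul_eq N hY]

/-- The product over all cosets is a homomorphism. -/
noncomputable def etaUniv [Fintype (G ⧸ N)] : G →* A :=
  MonoidHom.mk' (eta N φ Finset.univ) fun g h => by
    classical exact eta_mul_of_invariant N φ g fun q _ => Finset.mem_univ _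

variable {p : ℕ} [hp : Fact p.Prime]

/-- The moved points contribute nothing. -/
theorem eta_eq_one_of_moved {x : G} {k : ℕ} (hk : orderOf x = p ^ k)
    (hsmall : ∀ (n : ℕ), orderOf (x ^ n) < orderOf x → ∀ (a : G) (h : a⁻¹ * x ^ n * a ∈ N),
      φ ⟨a⁻¹ * x ^ n * a, h⟩ = 1)
    (Y : Finset (G ⧸ N)) (hY : ∀ q ∈ Y, x • q ∈ Y) (hmove : ∀ q ∈ Y, x • q ≠ q) :
    eta N φ Y x = 1 := by
  classical
  induction Y using Finset.strongInduction with
  | _ Y ih =>
    rcases Y.eq_empty_or_nonempty with rfl | ⟨q, hq⟩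
    · simp [eta]
    set n := Function.minimalPeriod (x • ·) q with hn
    have hit : ∀ i, (x • ·)^[i] q = x ^ i • q := fun i => by rw [smul_iterate]
    have hper : x ^ n • q = q := by
      rw [← hit]; exact Function.isPeriodicPt_minimalPeriod _ _
    have hdvd : n ∣ orderOf x := by
      refine Function.IsPeriodicPt.minimalPeriod_dvd ?_
      show (x • ·)^[orderOf x] q = q
      rw [hit, pow_orderOf_eq_one, one_smul]
    have hn0 : n ≠ 0 := fun h => by
      rw [h, zero_dvd_iff, hk] at hdvd; exact pow_ne_zero k hp.out.ne_zero hdvd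
    have hn1 : n ≠ 1 := fun h => by
      rw [h, pow_one] at hper; exact hmove q hq hper
    set O := (Finset.range n).image (fun i => x ^ i • q) with hO
    have hOY : O ⊆ Y := by
      intro a ha
      obtain ⟨i, -, rfl⟩ := Finset.mem_image.1 ha
      clear ha
      induction i with
      | zero => simpa using hq
      | succ i ih => rw [pow_succ', mul_smul]; exact hY _ ih
    have hOinv : ∀ a ∈ O, x • a ∈ O := by
      intro a ha
      obtain ⟨i, hi, rfl⟩ := Finset.mem_image.1 ha
      rw [Finset.mem_range] at hi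
      rcases eq_or_lt_of_le (Nat.succ_le_of_lt hi) with h | h
      · refine Finset.mem_image.2 ⟨0, Finset.mem_range.2 (Nat.pos_of_ne_zero hn0), ?_⟩
        rw [pow_zero, one_smul, ← mul_smul, ← pow_succ', show i + 1 = n from h, hper]
      · exact Finset.mem_image.2 ⟨i + 1, Finset.mem_range.2 h, by rw [pow_succ', mul_smul]⟩
    have hrest : eta N φ (Y \ O) x = 1 := by
      refine ih (Y \ O) (Finset.sdiff_ssubset hOY
        ⟨q, Finset.mem_image.2 ⟨0, Finset.mem_range.2 (Nat.pos_of_ne_zero hn0), by simp⟩⟩) ?_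
        (fun a ha => hmove a (Finset.mem_sdiff.1 ha).1)
      intro a ha
      rw [Finset.mem_sdiff] at ha ⊢
      refine ⟨hY a ha.1, fun h => ha.2 ?_⟩
      rw [← image_smul_eq N hOinv, Finset.mem_image] at h
      obtain ⟨b, hb, hba⟩ := h
      exact smul_left_cancel x hba ▸ hb
    have hcyc : eta N φ O x = 1 := by
      have hpow : ∀ m : ℕ, φ (coc N (x ^ m) q) = ∏ i ∈ Finset.range m, φ (coc N x (x ^ i • q)) := by
        intro m
        induction m with
        | zero =>
          rw [Finset.prod_range_zero, pow_zero, ← map_one φ]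
          exact congrArg φ (Subtype.ext (by simp [coc]))
        | succ m ih => rw [Finset.prod_range_succ, ← ih, pow_succ', coc_mul, map_mul, mul_comm]
      rw [eta, hO, Finset.prod_image, ← hpow n]
      · have hlt : orderOf (x ^ n) < orderOf x := by
          rw [orderOf_pow_of_dvd hn0 hdvd]
          exact Nat.div_lt_self (hk ▸ pow_pos hp.out.pos k) (by omega)
        have hmem : q.out⁻¹ * x ^ n * q.out ∈ N := by
          have h := (coc N (x ^ n) q).2
          simpa [coc, hper] using h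
        rw [show coc N (x ^ n) q = ⟨_, hmem⟩ from Subtype.ext (by simp [coc, hper])]
        exact hsmall n hlt _ hmem
      · intro i hi j hj hij
        simp only [Finset.coe_range, Set.mem_Iio] at hi hj
        simp only [← hit] at hij
        exact Function.iterate_injOn_Iio_minimalPeriod hi hj hij
    rw [eta, ← Finset.prod_sdiff hOY]
    exact (congrArg₂ (· * ·) hrest hcyc).trans (one_mul 1)

theorem mem_normalizer_of_map_eq {W : Subgroup G} {g : G}
    (h : W.map (MulAut.conj g).toMonoidHom = W) : g ∈ normalizer (W : Set G) := by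
  refine mem_normalizer_iff.2 fun y => ⟨fun hy => h.le ⟨y, hy, rfl⟩, fun hy => ?_⟩
  obtain ⟨y', hy', he⟩ := h.ge hy
  exact (MulAut.conj g).injective he ▸ hy'

variable [Finite G]

/-- A `p`-subgroup of a subgroup containing `S` is conjugate there into `S`. -/
theorem exists_conj_into (S : Sylow p G) {H : Subgroup G} (hSH : (S : Subgroup G) ≤ H)
    {P : Subgroup G} (hP : IsPGroup p P) (hPH : P ≤ H) :
    ∃ n ∈ H, P.map (MulAut.conj n).toMonoidHom ≤ (S : Subgroup G) := by
  obtain ⟨Q, hQ⟩ := (hP.of_equiv (subgroupOfEquivOfLe hPH).symm).exists_le_sylow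
  obtain ⟨c, hc⟩ := MulAction.exists_smul_eq H Q (S.subtype hSH)
  refine ⟨c, c.2, ?_⟩
  rintro _ ⟨y, hy, rfl⟩
  have h1 : (⟨y, hPH hy⟩ : H) ∈ (Q : Subgroup H) := hQ (mem_subgroupOf.2 hy)
  have h2 : c * (⟨y, hPH hy⟩ : H) * c⁻¹ ∈ ((c • Q : Sylow p H) : Subgroup H) := ⟨_, h1, rfl⟩
  rw [hc, Sylow.coe_subtype, mem_subgroupOf] at h2
  simpa using h2

theorem exists_conj_mem (S : Sylow p G) {H : Subgroup G} (hSH : (S : Subgroup G) ≤ H) (y : H)
    (hy : ∃ j, orderOf (y : G) = p ^ j) : ∃ n : H, (n : G) * (y : G) * (n : G)⁻¹ ∈ (S : Subgroup G) := by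
  obtain ⟨j, hj⟩ := hy
  obtain ⟨n, hn, hle⟩ := exists_conj_into S hSH
    (P := zpowers (y : G)) (IsPGroup.of_card (n := j) (by rw [Nat.card_zpowers, hj]))
    (zpowers_le.2 y.2)
  exact ⟨⟨n, hn⟩, hle ⟨y, mem_zpowers _, rfl⟩⟩

/-- Into an abelian `p`-group, the image of a group is the image of a Sylow subgroup. -/
theorem apply_mem_image_sylow (S : Sylow p G) {H : Subgroup G} (hSH : (S : Subgroup G) ≤ H)
    {B : Type*} [CommGroup B] [Finite B] (hB : IsPGroup p B) (h : H →* B) (y : H) :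
    h y ∈ ((S : Subgroup G).subgroupOf H).map h := by
  set m := (orderOf y) / p ^ (orderOf y).factorization p with hm
  have hcop : Nat.Coprime p m := Nat.coprime_ordCompl hp.out (orderOf_pos y).ne'
  have hm0 : orderOf y = p ^ (orderOf y).factorization p * m :=
    (Nat.ordProj_mul_ordCompl_eq_self _ p).symm
  have hmne : m ≠ 0 := fun h => by rw [h, mul_zero] at hm0; exact (orderOf_pos y).ne' hm0
  have hord : orderOf ((y ^ m : H) : G) = p ^ (orderOf y).factorization p := by
    rw [Subgroup.orderOf_coe, orderOf_pow_of_dvd hmne ⟨_, hm0.trans (mul_comm _ _)⟩]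
    conv_lhs => rw [hm0]
    exact Nat.mul_div_cancel _ (Nat.pos_of_ne_zero hmne)
  obtain ⟨n, hn⟩ := exists_conj_mem S hSH (y ^ m) ⟨_, hord⟩
  have h1 : h y ^ m ∈ ((S : Subgroup G).subgroupOf H).map h :=
    ⟨n * y ^ m * n⁻¹, mem_subgroupOf.2 (by simpa using hn),
      by rw [map_mul, map_mul, map_inv, map_pow, mul_comm (h n), mul_inv_cancel_right]⟩
  obtain ⟨k, hk⟩ := IsPGroup.iff_card.1 hB
  have hc : (Nat.card B).Coprime m := by rw [hk]; exact hcop.pow_left k
  obtain ⟨b, hb⟩ := ((powCoprime (G := ((S : Subgroup G).subgroupOf H).map h)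
    (hc.coprime_dvd_left (card_subgroup_dvd_card _))).surjective ⟨_, h1⟩)
  have : (b : B) = h y := (powCoprime hc).injective (congrArg Subtype.val hb)
  exact this ▸ b.2

/-- A character of the normalizer killed by the transfer and not trivial on the Sylow subgroup. -/
theorem exists_character (S : Sylow p G) (hSN : (S : Subgroup G) ≤ N)
    (h : (S : Subgroup G) ⊓ commutator G ≠ (S : Subgroup G) ⊓ ⁅N, N⁆) :
    ∃ χ : N →* Multiplicative (ZMod p), (∃ (s : G) (hs : s ∈ (S : Subgroup G)), χ ⟨s, hSN hs⟩ ≠ 1) ∧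
      ∀ [Fintype (G ⧸ N)], ∀ g ∈ N, eta N χ Finset.univ g = 1 := by
  classical
  letI : Fintype (G ⧸ N) := Fintype.ofFinite _
  set K : Subgroup N := Cfsg.pResidual p ↥N ⊔ commutator ↥N with hK
  haveI : K.Normal := sup_normal _ _
  letI cg : CommGroup (↥N ⧸ K) := { (inferInstance : Group (↥N ⧸ K)) with
    mul_comm := fun a b => by
      induction a using QuotientGroup.induction_on with
      | _ a =>
      induction b using QuotientGroup.induction_on with
      | _ b =>
      rw [← QuotientGroup.mk_mul, ← QuotientGroup.mk_mul, QuotientGroup.eq]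
      refine le_sup_right (a := Cfsg.pResidual p ↥N) ?_
      rw [_root_.commutator_def, show (a * b)⁻¹ * (b * a) = b⁻¹ * a⁻¹ * b * a by group]
      have := commutator_mem_commutator (mem_top b⁻¹) (mem_top a⁻¹)
      rwa [commutatorElement_def, inv_inv, inv_inv] at this }
  set φ₀ : N →* ↥N ⧸ K := QuotientGroup.mk' K with hφ₀
  have hpA : IsPGroup p (↥N ⧸ K) := by
    intro q
    obtain ⟨x, rfl⟩ := QuotientGroup.mk'_surjective K q
    exact ⟨_, by rw [← map_pow]
                 exact (QuotientGroup.eq_one_iff _).2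
                   (mem_sup_left (CfsgLib.PResidual.pow_mem_pResidual hp.out x))⟩
  set V : G →* ↥N ⧸ K := etaUniv N φ₀ with hV
  have hVker : Cfsg.pResidual p G ⊔ commutator G ≤ V.ker := by
    refine sup_le ?_ (Abelianization.commutator_subset_ker V)
    intro g hg
    obtain ⟨j, hj⟩ := IsPGroup.iff_card.1 hpA
    have h2 : Cfsg.pResidual p (↥N ⧸ K) ≤ ⊥ :=
      CfsgLib.PResidual.pResidual_le (k := j) (by rw [index_bot, hj])
    exact MonoidHom.mem_ker.2 (mem_bot.1 (h2 (CfsgLib.PResidual.map_pResidual_le (p := p) V ⟨g, hg, rfl⟩)))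
  -- the transfer is not onto on `N`
  have hrange : (V.comp N.subtype).range ≠ ⊤ := by
    intro htop
    refine h (le_antisymm ?_ (inf_le_inf_left _ ?_))
    swap
    · rw [_root_.commutator_def]; exact commutator_mono le_top le_top
    rintro y ⟨hyS, hy⟩
    refine ⟨hyS, ?_⟩
    set T := (S : Subgroup G).subgroupOf N with hT
    set h1 : T →* ↥N ⧸ K := φ₀.comp T.subtype with hh1
    set h2 : T →* ↥N ⧸ K := (V.comp N.subtype).comp T.subtype with hh2
    have hs1 : Function.Surjective h1 := fun a => by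
      obtain ⟨x, rfl⟩ := QuotientGroup.mk'_surjective K a
      obtain ⟨t, ht, he⟩ := apply_mem_image_sylow S hSN hpA φ₀ x
      exact ⟨⟨t, ht⟩, he⟩
    have hs2 : Function.Surjective h2 := fun a => by
      obtain ⟨x, rfl⟩ := MonoidHom.range_eq_top.1 htop a
      obtain ⟨t, ht, he⟩ := apply_mem_image_sylow S hSN hpA (V.comp N.subtype) x
      exact ⟨⟨t, ht⟩, he⟩
    have hle : h1.ker ≤ h2.ker := fun t ht => by
      refine MonoidHom.mem_ker.2 (hVker ?_)
      have h3 : ((t : N) : G) ∈ K.map N.subtype := ⟨t, (QuotientGroup.eq_one_iff _).1 ht, rfl⟩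
      rw [hK, Subgroup.map_sup] at h3
      refine (sup_le_sup (CfsgLib.PResidual.map_pResidual_le _) ?_ : _ ≤ _) h3
      rw [map_subtype_commutator, _root_.commutator_def]
      exact commutator_mono le_top le_top
    have hidx : h1.ker.index = h2.ker.index := by
      rw [index_ker, index_ker, MonoidHom.range_eq_top.2 hs1, MonoidHom.range_eq_top.2 hs2]
    have heq : h1.ker = h2.ker := by
      refine eq_of_le_of_card_ge hle (le_of_eq ?_)
      exact Nat.eq_of_mul_eq_mul_right (Nat.pos_of_ne_zero index_ne_zero_of_finite)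
        ((card_mul_index h2.ker).trans (by rw [← hidx]; exact (card_mul_index h1.ker).symm))
    have hyk : (⟨⟨y, hSN hyS⟩, mem_subgroupOf.2 hyS⟩ : T) ∈ h1.ker :=
      heq ▸ MonoidHom.mem_ker.2 (hVker (mem_sup_right hy))
    have hyK : (⟨y, hSN hyS⟩ : N) ∈ K := (QuotientGroup.eq_one_iff _).1 hyk
    have hker : K ≤ (S.subtype hSN).transferFocal.ker :=
      sup_le (CfsgLib.Fusion.pResidual_le_ker_transferFocal _) (Abelianization.commutator_subset_ker _)
    have hyf : (⟨y, hSN hyS⟩ : N) ∈ ((S.subtype hSN : Sylow p N) : Subgroup N).focalSubgroup := by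
      rw [← Subgroup.ker_transferFocal_inf_eq_focalSubgroup]
      exact ⟨hker hyK, mem_subgroupOf.2 hyS⟩
    rw [← commutator_inf_eq_focalSubgroup] at hyf
    rw [← map_subtype_commutator]
    exact ⟨_, hyf.1, rfl⟩
  obtain ⟨M₀, hM₀, hle₀⟩ := (eq_top_or_exists_le_coatom _).resolve_left hrange
  obtain ⟨hM₀n, hM₀i⟩ := CfsgLib.PGroupBasic.coatom_normal_index hpA hM₀
  haveI : IsCyclic ((↥N ⧸ K) ⧸ M₀) := isCyclic_of_prime_card (p := p) (by rw [← index_eq_card, hM₀i])
  let eC : (↥N ⧸ K) ⧸ M₀ ≃* Multiplicative (ZMod p) :=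
    mulEquivOfCyclicCardEq (by rw [← index_eq_card, hM₀i]; simp)
  refine ⟨eC.toMonoidHom.comp ((QuotientGroup.mk' M₀).comp φ₀), ?_, ?_⟩
  · by_contra hc
    push Not at hc
    obtain ⟨a, ha⟩ : ∃ a, a ∉ M₀ := by
      by_contra hc'; push Not at hc'; exact hM₀.1 (eq_top_iff.2 fun a _ => hc' a)
    obtain ⟨x, rfl⟩ := QuotientGroup.mk'_surjective K a
    obtain ⟨t, ht, he⟩ := apply_mem_image_sylow S hSN hpA φ₀ x
    have h1 := hc t ht
    simp only [MonoidHom.comp_apply, MulEquiv.coe_toMonoidHom, map_eq_one_iff _ eC.injective] at h1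
    exact ha (he ▸ (QuotientGroup.eq_one_iff _).1 h1)
  · intro inst g hg
    rw [Subsingleton.elim inst (Fintype.ofFinite _)]
    have h1 : V g ∈ M₀ := hle₀ ⟨⟨g, hg⟩, rfl⟩
    have h2 : ((eC.toMonoidHom.comp (QuotientGroup.mk' M₀)) : ↥N ⧸ K →* _) (V g) = 1 := by
      simp only [MonoidHom.comp_apply, MulEquiv.coe_toMonoidHom, map_eq_one_iff _ eC.injective]
      exact (QuotientGroup.eq_one_iff _).2 h1
    rw [hV, etaUniv, MonoidHom.mk'_apply, eta, map_prod] at h2
    exact h2

/-- The data produced by a weakly closed subgroup whose normalizer does not control transfer. -/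
theorem exists_data (S : Sylow p G) (W : Subgroup G) (hW : Cfsg.IsWeaklyClosed W (S : Subgroup G))
    (h : (S : Subgroup G) ⊓ commutator G ≠
      (S : Subgroup G) ⊓ ⁅normalizer (W : Set G), normalizer (W : Set G)⁆) :
    ∃ P : Subgroup G, W ≤ P ∧ P ≤ (S : Subgroup G) ∧ ∃ (M : Subgroup P) (_ : M.Normal)
      (x : M) (z : P) (f : M →* Multiplicative (ZMod p)),
      IsCoatom M ∧ M.index = p ∧ (z : G) ∈ W ∧ z ∉ M ∧
      f ((del (MulAut.conjNormal z⁻¹).toMonoidHom)^[p - 1] x) ≠ 1 := by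
  classical
  set N := normalizer (W : Set G) with hN
  letI : Fintype (G ⧸ N) := Fintype.ofFinite _
  have hSN : (S : Subgroup G) ≤ N := by
    intro s hs
    have h1 : W.map (MulAut.conj s).toMonoidHom ≤ (S : Subgroup G) := by
      rintro _ ⟨y, hy, rfl⟩
      exact mul_mem (mul_mem hs (hW.1 hy)) (inv_mem hs)
    have h2 := hW.2 s h1
    exact mem_normalizer_of_map_eq h2
  obtain ⟨χ, ⟨s₀, hs₀, hs₀χ⟩, hχ⟩ := exists_character N S hSN h
  letI : Fintype (S : Subgroup G) := Fintype.ofFinite _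
  set T : Finset ↥(S : Subgroup G) :=
    Finset.univ.filter fun s : ↥(S : Subgroup G) => χ ⟨(s : G), hSN s.2⟩ ≠ 1 with hT
  obtain ⟨x, hx, hxmin⟩ := Finset.exists_min_image T
    (fun s : ↥(S : Subgroup G) => orderOf (s : G)) ⟨⟨s₀, hs₀⟩, by simpa [hT] using hs₀χ⟩
  rw [hT] at hx hxmin
  simp only [Finset.mem_filter, Finset.mem_univ, true_and] at hx hxmin
  obtain ⟨k, hk⟩ := IsPGroup.iff_orderOf.1 S.2 x
  rw [← Subgroup.orderOf_coe] at hk
  have hsmall : ∀ n : ℕ, orderOf ((x : G) ^ n) < orderOf (x : G) → ∀ (a : G)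
      (hm : a⁻¹ * (x : G) ^ n * a ∈ N), χ ⟨a⁻¹ * (x : G) ^ n * a, hm⟩ = 1 := by
    intro n hn a hm
    have hord : orderOf (a⁻¹ * (x : G) ^ n * a) = orderOf ((x : G) ^ n) := by
      have := (MulAut.conj a⁻¹).orderOf_eq ((x : G) ^ n)
      simpa using this
    obtain ⟨j, -, hj⟩ := (Nat.dvd_prime_pow hp.out).1 (hk ▸ orderOf_pow_dvd (x := (x : G)) n)
    obtain ⟨ν, hν⟩ := exists_conj_mem S hSN ⟨_, hm⟩ ⟨j, hord.trans hj⟩
    by_contra hne
    have h1 := hxmin ⟨_, hν⟩ (by
      rw [show (⟨(ν : G) * (a⁻¹ * (x : G) ^ n * a) * (ν : G)⁻¹, hSN hν⟩ : N) =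
        ν * ⟨_, hm⟩ * ν⁻¹ from rfl, map_mul, map_mul, map_inv, mul_comm (χ ν), mul_inv_cancel_right]
      exact hne)
    have h2 : orderOf ((ν : G) * (a⁻¹ * (x : G) ^ n * a) * (ν : G)⁻¹) = orderOf ((x : G) ^ n) := by
      rw [← hord]
      exact ((MulAut.conj (ν : G)).orderOf_eq _)
    simp only at h1
    omega
  -- fixed point structure
  set q₀ : G ⧸ N := ((1 : G) : G ⧸ N) with hq₀
  have hfix₀ : ∀ g ∈ N, g • q₀ = q₀ := fun g hg => by
    rw [hq₀, MulAction.Quotient.smul_mk, smul_eq_mul, mul_one, QuotientGroup.eq, mul_one]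
    exact inv_mem hg
  have hWfix : ∀ q : G ⧸ N, (∀ w ∈ W, w • q = q) → q = q₀ := by
    intro q hq
    have hle : W.map (MulAut.conj q.out⁻¹).toMonoidHom ≤ N := by
      rintro _ ⟨w, hw, rfl⟩
      have := (coc N w q).2
      simpa [coc, hq w hw] using this
    obtain ⟨n, hn, hnle⟩ := exists_conj_into S hSN ((S.2.to_le hW.1).map _) hle
    rw [map_map] at hnle
    have hcomp : ((MulAut.conj n).toMonoidHom.comp (MulAut.conj q.out⁻¹).toMonoidHom) =
        (MulAut.conj (n * q.out⁻¹)).toMonoidHom := by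
      ext y; simp [mul_assoc]
    rw [hcomp] at hnle
    have h2 := hW.2 _ hnle
    have h3 : n * q.out⁻¹ ∈ N := by
      exact mem_normalizer_of_map_eq h2
    have h4 : q.out ∈ N := by
      have := inv_mem ((mul_mem_cancel_left hn).1 h3)
      rwa [inv_inv] at this
    rw [← QuotientGroup.out_eq' q, hq₀, QuotientGroup.eq, mul_one]
    exact inv_mem h4
  set P := W ⊔ zpowers (x : G) with hP
  have hPS : P ≤ (S : Subgroup G) := sup_le hW.1 (zpowers_le.2 x.2)
  have hxP : (x : G) ∈ P := mem_sup_right (mem_zpowers _)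
  -- a nontrivial orbit product
  set s : Finset (G ⧸ N) := Finset.univ.erase q₀ with hs
  have hsprod : eta N χ s x ≠ 1 := by
    intro h1
    have h2 := hχ (x : G) (hSN x.2)
    rw [eta, ← Finset.mul_prod_erase _ _ (Finset.mem_univ q₀), ← hs] at h2
    rw [show (∏ q ∈ s, χ (coc N (x : G) q)) = 1 from h1, mul_one] at h2
    have hn0 : q₀.out ∈ N := by
      have h3 : ((q₀.out : G) : G ⧸ N) = ((1 : G) : G ⧸ N) := QuotientGroup.out_eq' q₀
      have := QuotientGroup.eq.1 h3
      rwa [mul_one, inv_mem_iff] at this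
    have he : coc N (x : G) q₀ = ⟨q₀.out, hn0⟩⁻¹ * ⟨x, hSN x.2⟩ * ⟨q₀.out, hn0⟩ :=
      Subtype.ext (by simp [coc, hfix₀ _ (hSN x.2)])
    rw [he, map_mul, map_mul, map_inv, mul_comm (χ _)⁻¹, inv_mul_cancel_right] at h2
    exact hx h2
  set π : G ⧸ N → MulAction.orbitRel.Quotient P (G ⧸ N) := fun q => Quotient.mk'' q with hπ
  obtain ⟨j, hj⟩ : ∃ j, eta N χ (s.filter fun q => π q = j) x ≠ 1 := by
    by_contra hc
    push Not at hc
    letI : Fintype (MulAction.orbitRel.Quotient P (G ⧸ N)) := Fintype.ofFinite _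
    refine hsprod ?_
    rw [eta, ← Finset.prod_fiberwise s π]
    exact Finset.prod_eq_one fun j _ => hc j
  set Ω := s.filter fun q => π q = j with hΩ
  have hΩinv : ∀ g ∈ P, ∀ q ∈ Ω, g • q ∈ Ω := by
    intro g hg q hq
    simp only [hΩ, hs, Finset.mem_filter, Finset.mem_erase, Finset.mem_univ, and_true] at hq ⊢
    refine ⟨fun h1 => hq.1 ?_, ?_⟩
    · rw [← inv_smul_smul g q, h1, hfix₀ _ (inv_mem (hSN (hPS hg)))]
    · rw [← hq.2]
      exact Quotient.sound ⟨⟨g, hg⟩, rfl⟩
  have htrans : ∀ q ∈ Ω, ∀ q' ∈ Ω, ∃ g ∈ P, g • q = q' := by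
    intro q hq q' hq'
    have h1 : π q' = π q := (Finset.mem_filter.1 hq').2.trans (Finset.mem_filter.1 hq).2.symm
    obtain ⟨⟨g, hg⟩, he⟩ := Quotient.eq''.1 h1
    exact ⟨g, hg, he⟩
  obtain ⟨q, hq, hxq⟩ : ∃ q ∈ Ω, (x : G) • q = q := by
    by_contra hc
    push Not at hc
    exact hj (eta_eq_one_of_moved N χ hk hsmall Ω (hΩinv _ hxP) hc)
  obtain ⟨w, hwW, hwq⟩ : ∃ w ∈ W, w • q ≠ q := by
    by_contra hc
    push Not at hc
    exact (Finset.mem_erase.1 (Finset.mem_filter.1 hq).1).1 (hWfix q hc)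
  set R : Subgroup P := (MulAction.stabilizer G q).subgroupOf P with hR
  have hwP : w ∈ P := mem_sup_left hwW
  have hRtop : R ≠ ⊤ := fun h1 => hwq (h1.ge (mem_top (⟨w, hwP⟩ : P)) : (⟨w, hwP⟩ : P) ∈ R)
  obtain ⟨M, hMco, hRM⟩ := (eq_top_or_exists_le_coatom R).resolve_left hRtop
  obtain ⟨hMn, hMi⟩ := CfsgLib.PGroupBasic.coatom_normal_index (S.2.to_le hPS) hMco
  haveI := hMn
  have hxM : (⟨x, hxP⟩ : P) ∈ M := hRM (mem_subgroupOf.2 hxq)
  obtain ⟨z, hzW, hzM⟩ : ∃ z : P, (z : G) ∈ W ∧ z ∉ M := by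
    by_contra hc
    push Not at hc
    refine hMco.1 (eq_top_iff.2 ?_)
    have h1 : P ≤ M.map P.subtype := by
      refine sup_le (fun y hy => ⟨⟨y, mem_sup_left hy⟩, hc _ hy, rfl⟩) (zpowers_le.2 ⟨_, hxM, rfl⟩)
    intro y _
    obtain ⟨y', hy', he⟩ := h1 y.2
    exact Subtype.ext he ▸ hy'
  -- blocks
  set Y : Finset (G ⧸ N) := Ω.filter fun q' => ∃ m ∈ M, ((m : P) : G) • q = q' with hY
  have hYinv : ∀ m ∈ M, ∀ q' ∈ Y, ((m : P) : G) • q' ∈ Y := by
    intro m hm q' hq'
    obtain ⟨hq'Ω, m', hm', he⟩ := Finset.mem_filter.1 hq'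
    refine Finset.mem_filter.2 ⟨hΩinv _ m.2 _ hq'Ω, m * m', mul_mem hm hm', ?_⟩
    rw [Subgroup.coe_mul, mul_smul, he]
  let f : M →* Multiplicative (ZMod p) := MonoidHom.mk' (fun m => eta N χ Y ((m : P) : G))
    fun a b => eta_mul_of_invariant N χ _ (hYinv _ b.2)
  refine ⟨P, le_sup_left, hPS, M, hMn, ⟨⟨x, hxP⟩, hxM⟩, z, f, hMco, hMi, hzW, hzM, ?_⟩
  set σ := ((MulAut.conjNormal z⁻¹).toMonoidHom : M →* M) with hσ
  have hσi : ∀ (i : ℕ) (m : M), (((σ^[i] m : M) : P) : G) = ((z : G) ^ i)⁻¹ * ((m : P) : G) * (z : G) ^ i := by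
    intro i m
    induction i with
    | zero => simp
    | succ i ih =>
      rw [Function.iterate_succ_apply']
      generalize σ^[i] m = y at ih ⊢
      rw [hσ, MulEquiv.coe_toMonoidHom, MulAut.conjNormal_apply,
        Subgroup.coe_mul, Subgroup.coe_mul, ih, inv_inv, InvMemClass.coe_inv, pow_succ]
      group
  have hA : ∀ a : Multiplicative (ZMod p), a ^ p = 1 := fun a => by
    have h1 := pow_card_eq_one' (x := a)
    rwa [show Nat.card (Multiplicative (ZMod p)) = p by simp] at h1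
  intro h1
  have h2 := ofMul_del_pow σ f hA ⟨⟨x, hxP⟩, hxM⟩
  rw [h1, ofMul_one] at h2
  refine hj ?_
  -- the powers of `z` modulo `M`
  have hzord : orderOf (QuotientGroup.mk' M z) = p := by
    refine orderOf_eq_prime ?_ fun h3 => hzM ((QuotientGroup.eq_one_iff _).1 h3)
    have := pow_card_eq_one' (x := (QuotientGroup.mk' M z))
    rwa [← index_eq_card, hMi] at this
  have hdisj : (↑(Finset.range p) : Set ℕ).PairwiseDisjoint fun i => Y.image ((z : G) ^ i • ·) := by
    intro a ha b hb hab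
    rw [Function.onFun, Finset.disjoint_left]
    intro r hra hrb
    refine hab ?_
    obtain ⟨r₁, hr₁, rfl⟩ := Finset.mem_image.1 hra
    obtain ⟨r₂, hr₂, he⟩ := Finset.mem_image.1 hrb
    obtain ⟨-, m₁, hm₁, rfl⟩ := Finset.mem_filter.1 hr₁
    obtain ⟨-, m₂, hm₂, rfl⟩ := Finset.mem_filter.1 hr₂
    have h3 : (z ^ a * m₁)⁻¹ * (z ^ b * m₂) ∈ M := by
      refine hRM (mem_subgroupOf.2 ?_)
      show _ • q = q
      simp only [Subgroup.coe_mul, InvMemClass.coe_inv, SubmonoidClass.coe_pow, mul_smul] at he ⊢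
      rw [he, ← mul_smul, ← mul_smul, mul_assoc, inv_mul_cancel, one_smul]
    have h4 := (QuotientGroup.eq_one_iff _).2 h3
    change (QuotientGroup.mk' M) _ = 1 at h4
    simp only [map_mul, map_inv, map_pow, show QuotientGroup.mk' M m₁ = 1 from (QuotientGroup.eq_one_iff _).2 hm₁,
      show QuotientGroup.mk' M m₂ = 1 from (QuotientGroup.eq_one_iff _).2 hm₂, mul_one, inv_mul_eq_one] at h4
    exact pow_injOn_Iio_orderOf (by rw [hzord]; simpa using ha) (by rw [hzord]; simpa using hb) h4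
  have hunion : Ω = (Finset.range p).biUnion fun i => Y.image ((z : G) ^ i • ·) := by
    ext r
    simp only [Finset.mem_biUnion, Finset.mem_image, Finset.mem_range]
    constructor
    · intro hr
      obtain ⟨g, hg, he⟩ := htrans q hq r hr
      have hzp : zpowers (QuotientGroup.mk' M z) = ⊤ := by
        refine eq_top_of_card_eq _ ?_
        rw [Nat.card_zpowers, hzord, ← index_eq_card, hMi]
      have hmem : QuotientGroup.mk' M ⟨g, hg⟩ ∈ zpowers (QuotientGroup.mk' M z) := by
        rw [hzp]; exact mem_top _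
      obtain ⟨i, hi, hie⟩ := Finset.mem_image.1 (mem_zpowers_iff_mem_range_orderOf.1 hmem)
      rw [Finset.mem_range, hzord] at hi
      simp only [QuotientGroup.mk'_apply] at hie
      have hm : (z ^ i)⁻¹ * ⟨g, hg⟩ ∈ M := QuotientGroup.eq.1 hie
      refine ⟨i, hi, (((z ^ i)⁻¹ * ⟨g, hg⟩ : P) : G) • q, Finset.mem_filter.2
        ⟨hΩinv _ ((z ^ i)⁻¹ * ⟨g, hg⟩ : P).2 q hq, _, hm, rfl⟩, ?_⟩
      simp [← mul_smul, he]
    · rintro ⟨i, -, r', hr', rfl⟩
      exact hΩinv _ (pow_mem z.2 i) _ (Finset.mem_filter.1 hr').1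
  rw [eta, hunion, Finset.prod_biUnion hdisj]
  have hblock : ∀ i, ∏ r ∈ Y.image ((z : G) ^ i • ·), χ (coc N (x : G) r) =
      f (σ^[i] ⟨⟨x, hxP⟩, hxM⟩) := by
    intro i
    have e1 := eta_mul N χ Y (x : G) ((z : G) ^ i)
    have e2 := eta_mul_of_invariant N χ ((z : G) ^ i)
      (hYinv _ (σ^[i] ⟨⟨x, hxP⟩, hxM⟩).2)
    rw [hσi, show (z : G) ^ i * (((z : G) ^ i)⁻¹ * (x : G) * (z : G) ^ i) = (x : G) * (z : G) ^ i by
      group, e1, mul_comm _ (eta N χ Y ((z : G) ^ i))] at e2
    have e3 := mul_left_cancel e2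
    show eta N χ _ (x : G) = eta N χ Y (((σ^[i] ⟨⟨x, hxP⟩, hxM⟩ : M) : P) : G)
    rw [hσi]
    exact e3
  rw [Finset.prod_congr rfl fun i _ => hblock i]
  have h3 : Additive.ofMul (∏ i ∈ Finset.range p, f (σ^[i] ⟨⟨x, hxP⟩, hxM⟩)) = 0 := by
    rw [ofMul_prod]; exact h2.symm
  exact ofMul_eq_zero.1 h3

end CfsgLib.WY
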